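import Cfsg.Agent.H99.AltCarmichael

/-!
Subgroups of a symmetric group given by a parity and a supporting set, three-cycles on a fixed
pair, and the embedding of a smaller symmetric group.
-/

set_option autoImplicit false

namespace Cfsg.Agent.H68.ShortAlt

open Equiv Equiv.Perm
open Cfsg.Agent.H99.BoundedPres

section

variable {α : Type} [Fintype α] [DecidableEq α]

/-- The permutations whose sign lies in `U`. -/
def parGroup (U : Subgroup ℤˣ) (α : Type) [Fintype α] [DecidableEq α] : Subgroup (Perm α) :=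
  U.comap (Perm.sign (α := α))

theorem mem_parGroup {U : Subgroup ℤˣ} {c : Perm α} : c ∈ parGroup U α ↔ Perm.sign c ∈ U :=
  Iff.rfl

/-- The permutations fixing everything outside `S`. -/
def suppGroup (S : Finset α) : Subgroup (Perm α) where
  carrier := {c | ∀ P ∉ S, c P = P}
  one_mem' := fun _ _ => rfl
  mul_mem' := fun {a b} ha hb P hP => by rw [Perm.mul_apply, hb P hP, ha P hP]
  inv_mem' := fun {a} ha P hP => Perm.inv_eq_iff_eq.2 (ha P hP).symm

/-- Parity and support together. -/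
def gam (U : Subgroup ℤˣ) (S : Finset α) : Subgroup (Perm α) := parGroup U α ⊓ suppGroup S

theorem mem_gam {U : Subgroup ℤˣ} {S : Finset α} {c : Perm α} :
    c ∈ gam U S ↔ Perm.sign c ∈ U ∧ ∀ P ∉ S, c P = P := Iff.rfl

theorem gam_mono {U : Subgroup ℤˣ} {S T : Finset α} (h : S ⊆ T) : gam U S ≤ gam U T :=
  fun _ hc => ⟨hc.1, fun P hP => hc.2 P fun hS => hP (h hS)⟩

theorem supp_mapsTo {S : Finset α} {c : Perm α} (hc : ∀ P ∉ S, c P = P) {P : α} (hP : P ∈ S) :
    c P ∈ S := by
  by_contra h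
  exact h (by rw [c.injective (hc _ h)]; exact hP)

/-- The three-cycle `a → b → P → a`. -/
def cyc (a b P : α) : Perm α := swap a b * swap b P

theorem cyc_conj (c : Perm α) (a b P : α) : c * cyc a b P * c⁻¹ = cyc (c a) (c b) (c P) := by
  rw [cyc, cyc, show c * (swap a b * swap b P) * c⁻¹ = c * swap a b * c⁻¹ * (c * swap b P * c⁻¹)
    by group, ← swap_apply_apply, ← swap_apply_apply]

theorem cyc_mem_gam {U : Subgroup ℤˣ} {S : Finset α} {a b P : α} (hab : a ≠ b) (hP : b ≠ P)
    (ha : a ∈ S) (hb : b ∈ S) (hPS : P ∈ S) : cyc a b P ∈ gam U S := by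
  refine ⟨?_, fun Q hQ => ?_⟩
  · show Perm.sign (cyc a b P) ∈ U
    rw [cyc, map_mul, sign_swap hab, sign_swap hP, Int.units_mul_self]
    exact U.one_mem
  · have h1 : Q ≠ a := fun h => hQ (h ▸ ha)
    have h2 : Q ≠ b := fun h => hQ (h ▸ hb)
    have h3 : Q ≠ P := fun h => hQ (h ▸ hPS)
    rw [cyc, Perm.mul_apply, swap_apply_of_ne_of_ne h2 h3, swap_apply_of_ne_of_ne h1 h2]

theorem cyc_pair {a b P Q : α} (hab : a ≠ b) (haP : a ≠ P) (hbP : b ≠ P) (haQ : a ≠ Q) (hbQ : b ≠ Q)
    (hPQ : P ≠ Q) : cyc a b P * cyc a b Q * (cyc a b P * cyc a b Q) = 1 := by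
  refine Equiv.ext fun X => ?_
  by_cases h1 : X = a
  · subst h1
    simp [cyc, swap_apply_of_ne_of_ne, hab, hab.symm, haP, haP.symm, hbP, hbP.symm, haQ, haQ.symm,
      hbQ, hbQ.symm, hPQ, hPQ.symm]
  by_cases h2 : X = b
  · subst h2
    simp [cyc, swap_apply_of_ne_of_ne, hab, hab.symm, haP, haP.symm, hbP, hbP.symm, haQ, haQ.symm,
      hbQ, hbQ.symm, hPQ, hPQ.symm]
  by_cases h3 : X = P
  · subst h3
    simp [cyc, swap_apply_of_ne_of_ne, hab, hab.symm, haP, haP.symm, hbP, hbP.symm, haQ, haQ.symm,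
      hbQ, hbQ.symm, hPQ, hPQ.symm]
  by_cases h4 : X = Q
  · subst h4
    simp [cyc, swap_apply_of_ne_of_ne, hab, hab.symm, haP, haP.symm, hbP, hbP.symm, haQ, haQ.symm,
      hbQ, hbQ.symm, hPQ, hPQ.symm]
  simp [cyc, swap_apply_of_ne_of_ne, h1, h2, h3, h4]

theorem cyc_cube {a b P : α} (hab : a ≠ b) (haP : a ≠ P) (hbP : b ≠ P) : cyc a b P ^ 3 = 1 := by
  rw [cyc, swap_comm a b]
  have h := (Perm.isThreeCycle_swap_mul_swap_same hab.symm hbP haP).orderOf
  rw [← h]; exact pow_orderOf_eq_one _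

variable {β : Type} [Fintype β] [DecidableEq β]

/-- The symmetric group of `β` inside that of `α`. -/
def embHom {S : Finset α} (e : β ≃ {P // P ∈ S}) : Perm β →* Perm α :=
  Perm.ofSubtype.comp e.permCongrHom.toMonoidHom

variable {S : Finset α} (e : β ≃ {P // P ∈ S})

theorem embHom_eq (c : Perm β) : embHom e c = Perm.ofSubtype (e.permCongr c) := rfl

theorem embHom_apply (c : Perm β) (j : β) : embHom e c (e j : α) = (e (c j) : α) := by
  rw [embHom_eq, Perm.ofSubtype_apply_coe, Equiv.permCongr_apply, Equiv.symm_apply_apply]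

theorem embHom_outside (c : Perm β) {P : α} (hP : P ∉ S) : embHom e c P = P := by
  rw [embHom_eq]
  exact Perm.ofSubtype_apply_of_not_mem _ hP

theorem embHom_sign (c : Perm β) : Perm.sign (embHom e c) = Perm.sign c := by
  rw [embHom_eq, Perm.sign_ofSubtype, Perm.sign_permCongr]

theorem embHom_injective : Function.Injective (embHom e) :=
  Perm.ofSubtype_injective.comp e.permCongrHom.injective

theorem embHom_surj {c : Perm α} (hc : ∀ P ∉ S, c P = P) : ∃ c' : Perm β, embHom e c' = c := by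
  have h : ∀ P, c P ∈ S ↔ P ∈ S := fun P =>
    ⟨fun h => by_contra fun hP => hP (by rwa [hc P hP] at h), supp_mapsTo hc⟩
  refine ⟨e.symm.permCongr (c.subtypePerm h), ?_⟩
  rw [embHom_eq]
  rw [show e.permCongr (e.symm.permCongr (c.subtypePerm h)) = c.subtypePerm h from by
    ext x; simp [Equiv.permCongr_apply]]
  exact Perm.ofSubtype_subtypePerm _ (fun P hP => by_contra fun hS => hP (hc P hS))

theorem embHom_cyc (a b P : β) : embHom e (cyc a b P) = cyc (e a : α) (e b) (e P) := by
  refine Equiv.ext fun x => ?_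
  by_cases hx : x ∈ S
  · obtain ⟨j, hj⟩ := e.surjective ⟨x, hx⟩
    obtain rfl : (e j : α) = x := by rw [hj]
    have hi : Function.Injective fun j => (e j : α) := Subtype.coe_injective.comp e.injective
    rw [embHom_apply, cyc, cyc, Perm.mul_apply, Perm.mul_apply, hi.swap_apply, hi.swap_apply]
  · rw [embHom_outside e _ hx]
    have h1 : ∀ j : β, x ≠ (e j : α) := fun j h => hx (h ▸ (e j).2)
    rw [cyc, Perm.mul_apply, swap_apply_of_ne_of_ne (h1 b) (h1 P),
      swap_apply_of_ne_of_ne (h1 a) (h1 b)]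

theorem embHom_map_par (U : Subgroup ℤˣ) : (parGroup U β).map (embHom e) = gam U S := by
  ext c
  constructor
  · rintro ⟨c', hc', rfl⟩
    exact ⟨show Perm.sign (embHom e c') ∈ U by rw [embHom_sign]; exact hc', fun P hP => embHom_outside e _ hP⟩
  · rintro ⟨h1, h2⟩
    obtain ⟨c', rfl⟩ := embHom_surj e h2
    exact ⟨c', show Perm.sign c' ∈ U by rw [← embHom_sign e]; exact h1, rfl⟩

/-- The groups agree. -/
noncomputable def embEquiv (U : Subgroup ℤˣ) : parGroup U β ≃* gam U S :=
  ((parGroup U β).equivMapOfInjective (embHom e) (embHom_injective e)).trans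
    (MulEquiv.subgroupCongr (embHom_map_par e U))

theorem embEquiv_coe (U : Subgroup ℤˣ) (c : parGroup U β) :
    (embEquiv e U c : Perm α) = embHom e (c : Perm β) := rfl

/-- The three-cycles through a pair generate the even permutations. -/
theorem mem_closure_cyc {S : Finset α} {a b : α} (ha : a ∈ S) (hb : b ∈ S) (hab : a ≠ b)
    {c : Perm α} (hs : Perm.sign c = 1) (hc : ∀ P ∉ S, c P = P) :
    c ∈ Subgroup.closure {x | ∃ P ∈ S, P ≠ a ∧ P ≠ b ∧ x = cyc a b P} := by
  classical
  let I : Type := {P : {P // P ∈ S} // P ≠ ⟨a, ha⟩ ∧ P ≠ ⟨b, hb⟩}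
  let f : Fin 2 ⊕ I → {P // P ∈ S} := Sum.elim ![⟨a, ha⟩, ⟨b, hb⟩] Subtype.val
  have hf : Function.Bijective f := by
    refine ⟨?_, fun P => ?_⟩
    · rintro (i | i) (j | j) h
      · fin_cases i <;> fin_cases j <;> first
          | rfl
          | exact absurd (congrArg Subtype.val h) hab
          | exact absurd (congrArg Subtype.val h).symm hab
      · fin_cases i
        · exact absurd h.symm j.2.1
        · exact absurd h.symm j.2.2
      · fin_cases j
        · exact absurd h i.2.1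
        · exact absurd h i.2.2
      · exact congrArg Sum.inr (Subtype.ext h)
    · by_cases h0 : P = ⟨a, ha⟩
      · exact ⟨Sum.inl 0, h0.symm⟩
      by_cases h1 : P = ⟨b, hb⟩
      · exact ⟨Sum.inl 1, h1.symm⟩
      exact ⟨Sum.inr ⟨P, h0, h1⟩, rfl⟩
  let e := Equiv.ofBijective f hf
  obtain ⟨c', rfl⟩ := embHom_surj e hc
  rw [embHom_sign] at hs
  have hmem : (⟨c', mem_alternatingGroup.2 hs⟩ : alternatingGroup (Fin 2 ⊕ I)) ∈
      Subgroup.closure (Set.range (zA (I := I))) := by rw [zA_gen]; trivial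
  have := Subgroup.mem_map_of_mem ((embHom e).comp (alternatingGroup (Fin 2 ⊕ I)).subtype) hmem
  rw [MonoidHom.map_closure] at this
  refine Subgroup.closure_mono ?_ this
  rintro _ ⟨_, ⟨i, rfl⟩, rfl⟩
  refine ⟨(i.1 : α), i.1.2, fun h => i.2.1 (Subtype.ext h), fun h => i.2.2 (Subtype.ext h), ?_⟩
  exact embHom_cyc e (Sum.inl 0) (Sum.inl 1) (Sum.inr i)

theorem par_card_bot [Nontrivial α] : 2 * Nat.card (parGroup ⊥ α) = (Fintype.card α).factorial := by
  have : parGroup ⊥ α = alternatingGroup α := by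
    ext c; rw [mem_parGroup, Subgroup.mem_bot, mem_alternatingGroup]
  rw [this, two_mul_nat_card_alternatingGroup, Nat.card_perm, Nat.card_eq_fintype_card]

theorem par_card_top : Nat.card (parGroup ⊤ α) = (Fintype.card α).factorial := by
  rw [show parGroup ⊤ α = ⊤ from Subgroup.comap_top _, Subgroup.card_top, Nat.card_perm,
    Nat.card_eq_fintype_card]

end

end Cfsg.Agent.H68.ShortAlt
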