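import Cfsg.Agent.H99.AltWindow

/-!
The window: `AGL(1, p)` with two relations and a three-cycle give the alternating group (and,
with an element of order `2p`, the symmetric group) of degree `p + 2`, four relations on two
generators besides the order of the three-cycle.
-/

set_option autoImplicit false
set_option linter.unusedSectionVars false

namespace Cfsg.Agent.H68.ShortAlt

open Equiv Equiv.Perm
open Cfsg.Agent.H99.BoundedPres

section General

variable {G : Type} [Group G]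

theorem card_closure_insert (N : Subgroup G) [Finite N] (t : G)
    (hn : ∀ x ∈ N, t * x * t⁻¹ ∈ N) (hn' : ∀ x ∈ N, t⁻¹ * x * t ∈ N) (ht : t * t ∈ N) :
    Finite (Subgroup.closure (↑N ∪ {t} : Set G)) ∧
      Nat.card (Subgroup.closure (↑N ∪ {t} : Set G)) ≤ 2 * Nat.card N := by
  classical
  let M : Subgroup G :=
    { carrier := {g | g ∈ N ∨ g * t ∈ N}
      one_mem' := Or.inl N.one_mem
      mul_mem' := by
        rintro a b (ha | ha) (hb | hb)
        · exact Or.inl (N.mul_mem ha hb)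
        · exact Or.inr (by rw [mul_assoc]; exact N.mul_mem ha hb)
        · right
          rw [show a * b * t = a * t * (t⁻¹ * b * t) by group]
          exact N.mul_mem ha (hn' b hb)
        · left
          rw [show a * b = a * t * (t⁻¹ * (b * t) * t) * (t * t)⁻¹ by group]
          exact N.mul_mem (N.mul_mem ha (hn' _ hb)) (N.inv_mem ht)
      inv_mem' := by
        rintro a (ha | ha)
        · exact Or.inl (N.inv_mem ha)
        · right
          rw [show a⁻¹ * t = t * (a * t)⁻¹ * t⁻¹ * (t * t) by group]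
          exact N.mul_mem (hn _ (N.inv_mem ha)) ht }
  have hle : Subgroup.closure (↑N ∪ {t} : Set G) ≤ M := by
    rw [Subgroup.closure_le]
    rintro x (hx | rfl)
    · exact Or.inl hx
    · exact Or.inr ht
  let f : N × Bool → G := fun x => (x.1 : G) * if x.2 then t⁻¹ else 1
  have hsub : (M : Set G) ⊆ Set.range f := by
    rintro g (hg | hg)
    · exact ⟨(⟨g, hg⟩, false), by simp [f]⟩
    · exact ⟨(⟨g * t, hg⟩, true), by simp [f]⟩
  have hfin : (Subgroup.closure (↑N ∪ {t} : Set G) : Set G).Finite :=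
    (Set.finite_range f).subset (Set.Subset.trans hle hsub)
  haveI : Finite (Subgroup.closure (↑N ∪ {t} : Set G)) := hfin.to_subtype
  refine ⟨inferInstance, ?_⟩
  have h1 : ∀ g : Subgroup.closure (↑N ∪ {t} : Set G), ∃ x, f x = g := fun g => hsub (hle g.2)
  choose F hF using h1
  refine le_trans (Nat.card_le_card_of_injective F fun a b h => ?_) ?_
  · exact Subtype.ext (by rw [← hF a, ← hF b, h])
  · rw [Nat.card_prod, Nat.card_eq_fintype_card (α := Bool), Fintype.card_bool, mul_comm]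

/-- A generated pair in a product: relations bound a group, so they give a homomorphism. -/
theorem exists_hom_of_bound {T : Type} [Group T] [Finite T] {k : ℕ} {f : Fin k → T}
    (hf : Subgroup.closure (Set.range f) = ⊤) {g : Fin k → G}
    (h : Finite (Subgroup.closure (Set.range fun i => (f i, g i))) ∧
      Nat.card (Subgroup.closure (Set.range fun i => (f i, g i))) ≤ Nat.card T) :
    ∃ φ : T →* G, ∀ i, φ (f i) = g i := by
  obtain ⟨hfin, hcard⟩ := h
  set Γ := Subgroup.closure (Set.range fun i => (f i, g i))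
  let P : Γ →* T := (MonoidHom.fst T G).comp Γ.subtype
  have hs : Function.Surjective P := by
    rw [← MonoidHom.range_eq_top, eq_top_iff, ← hf, Subgroup.closure_le]
    rintro _ ⟨i, rfl⟩
    exact ⟨⟨(f i, g i), Subgroup.subset_closure ⟨i, rfl⟩⟩, rfl⟩
  let e := MulEquiv.ofBijective P (hs.bijective_of_nat_card_le hcard)
  refine ⟨((MonoidHom.snd T G).comp Γ.subtype).comp e.symm.toMonoidHom, fun i => ?_⟩
  have : e.symm (f i) = ⟨(f i, g i), Subgroup.subset_closure ⟨i, rfl⟩⟩ := by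
    rw [MulEquiv.symm_apply_eq]; rfl
  simp [this]

end General

variable {p : ℕ} [Fact p.Prime]

/-- The relations of the window in terms of the translation, the multiplication and the cycle. -/
def Rels {G : Type} [Group G] (p s : ℕ) (ε : ℤˣ) (a W z : G) : Prop :=
  a ^ p = W ^ (p - 1) ∧ W * a ^ s * W⁻¹ = a ^ (s + 1) ∧ W * z * W⁻¹ = z ^ (ε : ℤ) ∧
    (z * (a * z * a⁻¹)) ^ 2 = 1

/-- The exponent of Neumann's presentation of `AGL(1, p)`. -/
noncomputable def sExp (r : (ZMod p)ˣ) : ℕ := (((r : ZMod p) - 1)⁻¹).val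

theorem sExp_spec {r : (ZMod p)ˣ} (hr : (r : ZMod p) ≠ 1) :
    (sExp r : ZMod p) * (r : ZMod p) = (sExp r : ZMod p) + 1 ∧ (sExp r : ZMod p) ≠ 0 := by
  have h : (r : ZMod p) - 1 ≠ 0 := sub_ne_zero.2 hr
  have e : (sExp r : ZMod p) = ((r : ZMod p) - 1)⁻¹ := ZMod.natCast_zmod_val _
  rw [e]
  refine ⟨?_, inv_ne_zero h⟩
  have := inv_mul_cancel₀ h
  linear_combination this

theorem agl_rels {G : Type} [Group G] {r : (ZMod p)ˣ} (hr : (r : ZMod p) ≠ 1) {a W : G}
    (h1 : a ^ p = W ^ (p - 1)) (h2 : W * a ^ sExp r * W⁻¹ = a ^ (sExp r + 1)) :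
    a ^ p = 1 ∧ W ^ (p - 1) = 1 ∧ W * a * W⁻¹ = a ^ (r : ZMod p).val := by
  obtain ⟨hs, hs0⟩ := sExp_spec hr
  set s := sExp r
  have hc : W * a ^ p * W⁻¹ = a ^ p := by
    rw [h1, ← pow_succ', pow_succ, mul_inv_cancel_right]
  have hp : a ^ p = 1 := by
    have e : (a ^ p) ^ s = (a ^ p) ^ (s + 1) := by
      calc (a ^ p) ^ s = W * (a ^ p) ^ s * W⁻¹ := by rw [← conj_pow, hc]
        _ = W * (a ^ s) ^ p * W⁻¹ := by rw [← pow_mul, ← pow_mul, mul_comm]
        _ = (a ^ (s + 1)) ^ p := by rw [← conj_pow, h2]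
        _ = _ := by rw [← pow_mul, ← pow_mul, mul_comm]
    rw [pow_succ] at e
    exact mul_left_cancel (a := (a ^ p) ^ s) (by rw [mul_one]; exact e.symm)
  refine ⟨hp, h1 ▸ hp, ?_⟩
  set t := ((s : ZMod p)⁻¹).val
  have ht : ((s * t : ℕ) : ZMod p) = 1 := by
    rw [Nat.cast_mul, ZMod.natCast_zmod_val, mul_inv_cancel₀ hs0]
  have red : ∀ m k : ℕ, (m : ZMod p) = (k : ZMod p) → a ^ m = a ^ k := fun m k h => by
    rw [pow_eq_pow_mod m hp, pow_eq_pow_mod k hp, ← ZMod.val_natCast, ← ZMod.val_natCast, h]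
  calc W * a * W⁻¹ = W * (a ^ s) ^ t * W⁻¹ := by
        rw [← pow_mul, red (s * t) 1 (by rw [ht, Nat.cast_one]), pow_one]
    _ = (a ^ (s + 1)) ^ t := by rw [← conj_pow, h2]
    _ = _ := by
        rw [← pow_mul]
        refine red _ _ ?_
        rw [ZMod.natCast_zmod_val, Nat.cast_mul, Nat.cast_succ, ← hs, mul_comm (s : ZMod p),
          mul_assoc, ← Nat.cast_mul, ht, mul_one]

theorem window_family {G : Type} [Group G] {r : (ZMod p)ˣ}
    (hr : ∀ x : (ZMod p)ˣ, x ∈ Subgroup.zpowers r) {ε : ℤˣ} {a W z : G} (ha : a ^ p = 1)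
    (hW : W * a * W⁻¹ = a ^ (r : ZMod p).val) (hz : W * z * W⁻¹ = z ^ (ε : ℤ)) (h3 : z ^ 3 = 1)
    (hq : (z * (a * z * a⁻¹)) ^ 2 = 1) :
    ∃ zg : ZMod p → G, zg 0 = z ∧ (∀ i, a * zg i * a⁻¹ = zg (i + 1)) ∧
      (∀ i, W * zg i * W⁻¹ = zg ((r : ZMod p) * i) ^ (ε : ℤ)) ∧
      Finite (Subgroup.closure (Set.range zg)) ∧
      2 * Nat.card (Subgroup.closure (Set.range zg)) ≤ (p + 2).factorial := by
  let zg : ZMod p → G := fun i => a ^ i.val * z * (a ^ i.val)⁻¹
  have hzg : ∀ n : ℕ, zg n = a ^ n * z * (a ^ n)⁻¹ := fun n => by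
    simp only [zg, ZMod.val_natCast]
    rw [← pow_eq_pow_mod n ha]
  have htr : ∀ i : ZMod p, a * zg i * a⁻¹ = zg (i + 1) := fun i => by
    rw [← ZMod.natCast_zmod_val i, ← Nat.cast_succ, hzg, hzg, pow_succ']
    simp [mul_assoc]
  have hsc : ∀ i : ZMod p, W * zg i * W⁻¹ = zg ((r : ZMod p) * i) ^ (ε : ℤ) := fun i => by
    obtain ⟨n, rfl⟩ : ∃ n : ℕ, i = n := ⟨i.val, (ZMod.natCast_zmod_val i).symm⟩
    rw [hzg, ← ZMod.natCast_zmod_val (r : ZMod p), ← Nat.cast_mul, hzg, conj_zpow, pow_mul, ← hz]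
    have e : W * a ^ n * W⁻¹ = (a ^ (r : ZMod p).val) ^ n := by rw [← hW, conj_pow]
    calc W * (a ^ n * z * (a ^ n)⁻¹) * W⁻¹
        = (W * a ^ n * W⁻¹) * (W * z * W⁻¹) * (W * a ^ n * W⁻¹)⁻¹ := by simp [mul_assoc]
      _ = _ := by rw [e]
  have hzero : zg 0 = z := by
    have := hzg 0; simpa using this
  have hQ1 : ∀ i, (zg i * zg (i + 1)) ^ 2 = 1 := by
    have base : (zg 0 * zg (0 + 1)) ^ 2 = 1 := by rw [← htr, hzero]; exact hq
    intro i
    obtain ⟨n, rfl⟩ : ∃ n : ℕ, i = n := ⟨i.val, (ZMod.natCast_zmod_val i).symm⟩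
    induction n with
    | zero => simpa using base
    | succ n ih =>
      rw [Nat.cast_succ, ← htr (n : ZMod p), ← htr ((n : ZMod p) + 1), conj_mul, conj_pow, ih,
        mul_one, mul_inv_cancel]
  have hQr : ∀ m : ℕ, ∀ i, (zg i * zg (i + ((r ^ m : (ZMod p)ˣ) : ZMod p))) ^ 2 = 1 := by
    intro m
    induction m with
    | zero => intro i; simpa using hQ1 i
    | succ m ih =>
      intro i
      obtain ⟨j, rfl⟩ : ∃ j, i = (r : ZMod p) * j :=
        ⟨((r⁻¹ : (ZMod p)ˣ) : ZMod p) * i, (Units.mul_inv_cancel_left r i).symm⟩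
      rw [show r ^ (m + 1) = r * r ^ m from pow_succ' r m, Units.val_mul, ← mul_add]
      apply conj_zpow_sq (e := ε)
      rw [← hsc, ← hsc, conj_mul, conj_pow, ih, mul_one, mul_inv_cancel]
  have hpair : ∀ i j, i ≠ j → (zg i * zg j) ^ 2 = 1 := by
    intro i j hij
    obtain ⟨m, hm⟩ := mem_powers_iff_mem_zpowers.mpr
      (hr (Units.mk0 (j - i) (sub_ne_zero.mpr hij.symm)))
    have h := hQr m i
    rwa [show ((r ^ m : (ZMod p)ˣ) : ZMod p) = j - i from congrArg Units.val hm,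
      add_sub_cancel] at h
  have hcube : ∀ i, zg i ^ 3 = 1 := fun i => by
    show (a ^ i.val * z * (a ^ i.val)⁻¹) ^ 3 = 1
    rw [conj_pow, h3, mul_one, mul_inv_cancel]
  obtain ⟨hfin, hle⟩ := card_le_carmichael'
    (P := Subgroup.closure (Set.range zg))
    (fun i => ⟨zg i, Subgroup.subset_closure ⟨i, rfl⟩⟩) (fun i => Subtype.ext (hcube i))
    (fun i j hij => Subtype.ext (hpair i j hij))
    (by
      refine Subgroup.map_injective (Subgroup.closure (Set.range zg)).subtype_injective ?_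
      rw [MonoidHom.map_closure, ← MonoidHom.range_eq_map, Subgroup.range_subtype, ← Set.range_comp]
      rfl)
  refine ⟨zg, hzero, htr, hsc, hfin, ?_⟩
  rwa [ZMod.card] at hle

section Bound

variable {G : Type} [Group G] {r : (ZMod p)ˣ}

theorem mem_of_conj {N : Subgroup G} {a m : G} (hm : m ∈ N) (hn : ∀ x ∈ N, a * x * a⁻¹ ∈ N)
    (ha : a ^ p = 1) (hr : (r : ZMod p) ≠ 1) (h : m * a * m⁻¹ = a ^ (r : ZMod p).val) : a ∈ N := by
  have h1 : a ^ (r : ZMod p).val * a⁻¹ ∈ N := by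
    rw [← h, show m * a * m⁻¹ * a⁻¹ = m * (a * m⁻¹ * a⁻¹) by group]
    exact N.mul_mem hm (hn _ (N.inv_mem hm))
  set u := ((r : ZMod p) - 1).val
  set v := (((r : ZMod p) - 1)⁻¹).val
  have h2 : a ^ (r : ZMod p).val * a⁻¹ = a ^ u := by
    rw [mul_inv_eq_iff_eq_mul, ← pow_succ, pow_eq_pow_mod _ ha, pow_eq_pow_mod (u + 1) ha,
      ← ZMod.val_natCast, ← ZMod.val_natCast, ZMod.natCast_zmod_val, Nat.cast_succ,
      ZMod.natCast_zmod_val, sub_add_cancel]
  have h3 : (a ^ u) ^ v = a := by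
    conv_rhs => rw [← pow_one a]
    rw [← pow_mul, pow_eq_pow_mod _ ha, pow_eq_pow_mod 1 ha, ← ZMod.val_natCast,
      ← ZMod.val_natCast, Nat.cast_mul, ZMod.natCast_zmod_val, ZMod.natCast_zmod_val,
      mul_inv_cancel₀ (sub_ne_zero.2 hr), Nat.cast_one]
  rw [← h3, ← h2]
  exact N.pow_mem h1 v

theorem conj_closure {ι : Type*} (f : ι → G) {g : G}
    (h : ∀ i, g * f i * g⁻¹ ∈ Subgroup.closure (Set.range f)) :
    ∀ x ∈ Subgroup.closure (Set.range f), g * x * g⁻¹ ∈ Subgroup.closure (Set.range f) := by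
  intro x hx
  induction hx using Subgroup.closure_induction with
  | mem x hx => obtain ⟨i, rfl⟩ := hx; exact h i
  | one => simp
  | mul x y _ _ hx hy => rw [← conj_mul]; exact mul_mem hx hy
  | inv x _ hx =>
    rw [show g * x⁻¹ * g⁻¹ = (g * x * g⁻¹)⁻¹ by group]
    exact inv_mem hx

/-- Words in `a` and `z` are elements of `N` times powers of `a`. -/
theorem word_split {N : Subgroup G} {a z : G} (hz : z ∈ N) (hn : ∀ x ∈ N, a * x * a⁻¹ ∈ N)
    (hn' : ∀ x ∈ N, a⁻¹ * x * a ∈ N) (w : FreeGroup (Fin 2)) :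
    ∃ m ∈ N, ∃ i : ℤ, FreeGroup.lift ![a, z] w = m * a ^ i := by
  have hconj : ∀ (i : ℤ), ∀ x ∈ N, a ^ i * x * (a ^ i)⁻¹ ∈ N := by
    intro i
    induction i using Int.induction_on with
    | zero => intro x hx; simpa using hx
    | succ i ih =>
      intro x hx
      rw [zpow_add_one, show a ^ (i : ℤ) * a * x * (a ^ (i : ℤ) * a)⁻¹ =
        a ^ (i : ℤ) * (a * x * a⁻¹) * (a ^ (i : ℤ))⁻¹ by group]
      exact ih _ (hn x hx)
    | pred i ih =>
      intro x hx
      rw [zpow_sub_one, show a ^ (-(i : ℤ)) * a⁻¹ * x * (a ^ (-(i : ℤ)) * a⁻¹)⁻¹ =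
        a ^ (-(i : ℤ)) * (a⁻¹ * x * a) * (a ^ (-(i : ℤ)))⁻¹ by group]
      exact ih _ (hn' x hx)
  induction w using FreeGroup.induction_on with
  | C1 => exact ⟨1, N.one_mem, 0, by simp⟩
  | of x =>
    rw [FreeGroup.lift_apply_of]
    fin_cases x
    · exact ⟨1, N.one_mem, 1, by simp⟩
    · exact ⟨z, hz, 0, by simp⟩
  | inv_of x hx =>
    obtain ⟨m, hm, i, e⟩ := hx
    refine ⟨a ^ (-i) * m⁻¹ * (a ^ (-i))⁻¹, hconj _ _ (N.inv_mem hm), -i, ?_⟩
    rw [map_inv, e]; group
  | mul x y hx hy =>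
    obtain ⟨m, hm, i, e⟩ := hx
    obtain ⟨m', hm', i', e'⟩ := hy
    refine ⟨m * (a ^ i * m' * (a ^ i)⁻¹), N.mul_mem hm (hconj i m' hm'), i + i', ?_⟩
    rw [map_mul, e, e']; group

theorem translate_closure {a : G} {zg : ZMod p → G} (htr : ∀ i, a * zg i * a⁻¹ = zg (i + 1)) :
    (∀ x ∈ Subgroup.closure (Set.range zg), a * x * a⁻¹ ∈ Subgroup.closure (Set.range zg)) ∧
    ∀ x ∈ Subgroup.closure (Set.range zg), a⁻¹ * x * a ∈ Subgroup.closure (Set.range zg) := by
  refine ⟨conj_closure zg fun i => ?_, fun x hx => ?_⟩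
  · rw [htr]; exact Subgroup.subset_closure ⟨_, rfl⟩
  · have := conj_closure zg (g := a⁻¹) (fun i => by
      refine Subgroup.subset_closure ⟨i - 1, ?_⟩
      have := htr (i - 1)
      rw [sub_add_cancel] at this
      rw [← this]; group) x hx
    simpa using this

/-- The alternating window. -/
theorem window_alt_bound (hr : ∀ x : (ZMod p)ˣ, x ∈ Subgroup.zpowers r) (hr1 : (r : ZMod p) ≠ 1)
    (w : FreeGroup (Fin 2)) {a z : G}
    (h : Rels p (sExp r) (-1) a (FreeGroup.lift ![a, z] w) z) (h3 : z ^ 3 = 1) :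
    Finite (Subgroup.closure (Set.range ![a, z])) ∧
      2 * Nat.card (Subgroup.closure (Set.range ![a, z])) ≤ (p + 2).factorial := by
  obtain ⟨h1, h2, hz, hq⟩ := h
  obtain ⟨ha, -, hW⟩ := agl_rels hr1 h1 h2
  obtain ⟨zg, hz0, htr, -, hfin, hle⟩ := window_family hr ha hW hz h3 hq
  obtain ⟨hn, hn'⟩ := translate_closure htr
  set N := Subgroup.closure (Set.range zg)
  have hzN : z ∈ N := Subgroup.subset_closure ⟨0, hz0⟩
  obtain ⟨m, hm, i, e⟩ := word_split hzN hn hn' w
  have haN : a ∈ N := mem_of_conj hm hn ha hr1 (by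
    rw [← hW, e]; group)
  have hsub : Subgroup.closure (Set.range ![a, z]) ≤ N := by
    rw [Subgroup.closure_le]
    rintro _ ⟨j, rfl⟩
    fin_cases j
    · exact haN
    · exact hzN
  have := hfin
  exact ⟨Finite.of_injective _ (Subgroup.inclusion_injective hsub),
    le_trans (Nat.mul_le_mul_left 2 (Nat.card_le_card_of_injective _
      (Subgroup.inclusion_injective hsub))) hle⟩

/-- The symmetric window. -/
theorem window_perm_bound (hp2 : p ≠ 2) (hr : ∀ x : (ZMod p)ˣ, x ∈ Subgroup.zpowers r)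
    (hr1 : (r : ZMod p) ≠ 1) (w : FreeGroup (Fin 2)) {e z : G}
    (h : Rels p (sExp r) 1 (e ^ (p + 1)) (e ^ p * FreeGroup.lift ![e ^ (p + 1), z] w) z)
    (h3 : z ^ 3 = 1) :
    Finite (Subgroup.closure (Set.range ![e, z])) ∧
      Nat.card (Subgroup.closure (Set.range ![e, z])) ≤ (p + 2).factorial := by
  obtain ⟨h1, h2, hz, hq⟩ := h
  obtain ⟨ha, hWp, hW⟩ := agl_rels hr1 h1 h2
  obtain ⟨zg, hz0, htr, -, hfin, hle⟩ := window_family hr ha hW hz h3 hq
  obtain ⟨hn, hn'⟩ := translate_closure htr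
  set a := e ^ (p + 1)
  set t := e ^ p with ht
  set N := Subgroup.closure (Set.range zg)
  have hzN : z ∈ N := Subgroup.subset_closure ⟨0, hz0⟩
  obtain ⟨m, hm, i, ew⟩ := word_split hzN hn hn' w
  set W := t * FreeGroup.lift ![a, z] w with hWdef
  have hta : ∀ k : ℤ, Commute t (a ^ k) := fun k => (Commute.pow_pow_self e p (p + 1)).zpow_right k
  have hta1 : Commute t a := Commute.pow_pow_self e p (p + 1)
  have htn : t ^ (p + 1) = 1 := by rw [ht, ← pow_mul, mul_comm, pow_mul]; exact ha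
  have hzt : t⁻¹ * z * t = m * zg (i : ZMod p) * m⁻¹ := by
    have hz' : W * z * W⁻¹ = z := by simpa using hz
    have e1 : a ^ i * z * (a ^ i)⁻¹ = zg (i : ZMod p) := by
      rw [← hz0]
      have hk : ∀ k : ℕ, ∀ j, a ^ k * zg j * (a ^ k)⁻¹ = zg (j + k) := by
        intro k
        induction k with
        | zero => simp
        | succ k ih =>
          intro j
          rw [pow_succ, show a ^ k * a * zg j * (a ^ k * a)⁻¹ = a ^ k * (a * zg j * a⁻¹) * (a ^ k)⁻¹
            by group, htr, ih, Nat.cast_succ]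
          congr 1; ring
      have e2 : a ^ i = a ^ ((i : ZMod p).val) := by
        have hd : ((i - ((i : ZMod p).val : ℤ) : ℤ) : ZMod p) = 0 := by
          rw [Int.cast_sub, Int.cast_natCast, ZMod.natCast_zmod_val, sub_self]
        obtain ⟨c, hc⟩ := (ZMod.intCast_zmod_eq_zero_iff_dvd _ _).1 hd
        rw [show i = ((i : ZMod p).val : ℤ) + (p : ℤ) * c by omega, zpow_add, zpow_mul,
          zpow_natCast, zpow_natCast, ha, one_zpow, mul_one]
        simp
      rw [e2, hk, zero_add, ZMod.natCast_zmod_val]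
    calc t⁻¹ * z * t = t⁻¹ * (W * z * W⁻¹) * t := by rw [hz']
      _ = m * (a ^ i * z * (a ^ i)⁻¹) * m⁻¹ := by rw [hWdef, ew]; group
      _ = _ := by rw [e1]
  have htN : ∀ x ∈ N, t⁻¹ * x * t ∈ N := by
    intro x hx
    have := conj_closure zg (g := t⁻¹) (fun j => ?_) x hx
    · simpa using this
    · obtain ⟨k, hk⟩ : ∃ k : ℕ, zg j = a ^ k * z * (a ^ k)⁻¹ := by
        refine ⟨j.val, ?_⟩
        have hk : ∀ k : ℕ, a ^ k * z * (a ^ k)⁻¹ = zg (k : ZMod p) := by
          intro k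
          induction k with
          | zero => simp [hz0]
          | succ k ih =>
            rw [pow_succ', Nat.cast_succ, ← htr, ← ih]; group
        rw [hk, ZMod.natCast_zmod_val]
      rw [inv_inv, hk]
      have hc : Commute t (a ^ k) := hta1.pow_right k
      rw [show t⁻¹ * (a ^ k * z * (a ^ k)⁻¹) * t =
        (t⁻¹ * a ^ k * t) * (t⁻¹ * z * t) * (t⁻¹ * a ^ k * t)⁻¹ by group]
      rw [show t⁻¹ * a ^ k * t = a ^ k by rw [mul_assoc, ← hc.eq]; group, hzt]
      have hcj : ∀ x ∈ N, a ^ k * x * (a ^ k)⁻¹ ∈ N := by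
        clear hk hc
        induction k with
        | zero => intro x hx; simpa using hx
        | succ k ih =>
          intro x hx
          rw [pow_succ, show a ^ k * a * x * (a ^ k * a)⁻¹ = a ^ k * (a * x * a⁻¹) * (a ^ k)⁻¹
            by group]
          exact ih _ (hn x hx)
      exact hcj _ (N.mul_mem (N.mul_mem hm (Subgroup.subset_closure ⟨_, rfl⟩)) (N.inv_mem hm))
  have htN' : ∀ x ∈ N, t * x * t⁻¹ ∈ N := by
    have hk : ∀ k : ℕ, ∀ x ∈ N, (t ^ k)⁻¹ * x * t ^ k ∈ N := by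
      intro k
      induction k with
      | zero => intro x hx; simpa using hx
      | succ k ih =>
        intro x hx
        rw [pow_succ, show (t ^ k * t)⁻¹ * x * (t ^ k * t) = t⁻¹ * ((t ^ k)⁻¹ * x * t ^ k) * t
          by group]
        exact htN _ (ih x hx)
    intro x hx
    have e1 : t ^ p = t⁻¹ := eq_inv_of_mul_eq_one_left (by rw [← pow_succ, htn])
    have := hk p x hx
    rwa [e1, inv_inv] at this
  have haN : a ∈ N := mem_of_conj hm hn ha hr1 (by
    have e1 : W * a * W⁻¹ = t * (m * a * m⁻¹) * t⁻¹ := by rw [hWdef, ew]; group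
    rw [e1] at hW
    calc m * a * m⁻¹ = t⁻¹ * (t * (m * a * m⁻¹) * t⁻¹) * t := by group
      _ = t⁻¹ * a ^ (r : ZMod p).val * t := by rw [hW]
      _ = _ := by rw [mul_assoc, ← (hta1.pow_right _).eq]; group)
  have hW' : ∀ j : ℕ, W ^ j * (t ^ j)⁻¹ ∈ N := by
    have hw0 : FreeGroup.lift ![a, z] w ∈ N := by rw [ew]; exact N.mul_mem hm (N.zpow_mem haN i)
    intro j
    induction j with
    | zero => simp
    | succ j ih =>
      have hcj : ∀ x ∈ N, t ^ j * x * (t ^ j)⁻¹ ∈ N := by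
        clear ih
        induction j with
        | zero => intro x hx; simpa using hx
        | succ j ih =>
          intro x hx
          rw [pow_succ, show t ^ j * t * x * (t ^ j * t)⁻¹ = t ^ j * (t * x * t⁻¹) * (t ^ j)⁻¹
            by group]
          exact ih _ (htN' x hx)
      rw [pow_succ W, pow_succ t, show W ^ j * W * (t ^ j * t)⁻¹ =
        W ^ j * (t ^ j)⁻¹ * (t ^ j * (W * t⁻¹) * (t ^ j)⁻¹) by group]
      refine N.mul_mem ih (hcj _ ?_)
      rw [hWdef]; exact htN' _ hw0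
  have ht2 : t * t ∈ N := by
    have h := hW' (p - 1)
    rw [hWp, one_mul] at h
    have hp := (Fact.out : p.Prime).two_le
    have e1 : t * t = (t ^ (p - 1))⁻¹ := by
      refine eq_inv_of_mul_eq_one_left ?_
      rw [← pow_two, ← pow_add, show 2 + (p - 1) = p + 1 by omega, htn]
    rwa [e1]
  have := hfin
  obtain ⟨hMf, hMc⟩ := card_closure_insert N t htN' htN ht2
  have hsub : Subgroup.closure (Set.range ![e, z]) ≤ Subgroup.closure (↑N ∪ {t} : Set G) := by
    rw [Subgroup.closure_le]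
    rintro _ ⟨j, rfl⟩
    fin_cases j
    · show e ∈ _
      rw [show e = (e ^ p)⁻¹ * e ^ (p + 1) by rw [pow_succ]; group]
      exact mul_mem (inv_mem (Subgroup.subset_closure (Or.inr rfl)))
        (Subgroup.subset_closure (Or.inl haN))
    · exact Subgroup.subset_closure (Or.inl hzN)
  have := hMf
  exact ⟨Finite.of_injective _ (Subgroup.inclusion_injective hsub),
    ((Nat.card_le_card_of_injective _ (Subgroup.inclusion_injective hsub)).trans hMc).trans hle⟩

end Bound

end Cfsg.Agent.H68.ShortAlt
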