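import Cfsg.Agent.H68.ShortAlt.Basic
import Cfsg.Agent.H68.ShortAlt.Window

/-!
Gluing a window to its image under an involution by one braid relation: the commutation of the
two ends follows.
-/

set_option autoImplicit false

namespace Cfsg.Agent.H68.ShortAlt

open Equiv Equiv.Perm
open Cfsg.Agent.H99.BoundedPres

variable {Ω : Type} [Fintype Ω] [DecidableEq Ω]

/-- The geometry of a window `S`, an involution `ĝ` moving it to cover everything, an involution
`X̂` inside it, and a base pair `c₀, c₁`. -/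
structure Layout (U : Subgroup ℤˣ) (S : Finset Ω) (gh xh : Perm Ω) (c₀ c₁ : Ω) : Prop where
  par : U = ⊥ ∨ U = ⊤
  gg : gh * gh = 1
  xx : xh * xh = 1
  xmem : xh ∈ gam U S
  gpar : Perm.sign gh ∈ U
  cover : ∀ P, P ∈ S ∨ gh P ∈ S
  braid : gh * xh * gh = xh * gh * xh
  ends : ∀ P ∈ S, gh P ∉ S → xh P ∈ S ∧ gh (xh P) ∈ S
  ne : c₀ ≠ c₁
  base₀ : c₀ ∈ S ∧ gh c₀ ∈ S ∧ gh (xh c₀) ∈ S ∧ gh (xh (gh (xh c₀))) ∈ S
  base₁ : c₁ ∈ S ∧ gh c₁ ∈ S ∧ gh (xh c₁) ∈ S ∧ gh (xh (gh (xh c₁))) ∈ S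

variable {U : Subgroup ℤˣ} {S : Finset Ω} {gh xh : Perm Ω} {c₀ c₁ : Ω}

theorem Layout.inv_g (L : Layout U S gh xh c₀ c₁) : gh⁻¹ = gh :=
  inv_eq_of_mul_eq_one_right L.gg

theorem Layout.inv_x (L : Layout U S gh xh c₀ c₁) : xh⁻¹ = xh :=
  inv_eq_of_mul_eq_one_right L.xx

theorem Layout.g_g (L : Layout U S gh xh c₀ c₁) (P : Ω) : gh (gh P) = P := by
  rw [← Perm.mul_apply, L.gg, Perm.one_apply]

theorem Layout.x_x (L : Layout U S gh xh c₀ c₁) (P : Ω) : xh (xh P) = P := by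
  rw [← Perm.mul_apply, L.xx, Perm.one_apply]

theorem Layout.conj_par (L : Layout U S gh xh c₀ c₁) (c : Perm Ω) :
    Perm.sign (gh * c * gh) = Perm.sign c := by
  rw [map_mul, map_mul, mul_right_comm, Int.units_mul_self, one_mul]

theorem Layout.cyc_conj_g (L : Layout U S gh xh c₀ c₁) (a b P : Ω) :
    gh * cyc a b P * gh = cyc (gh a) (gh b) (gh P) := by
  have := cyc_conj gh a b P; rwa [L.inv_g] at this

theorem Layout.cyc_conj_x (L : Layout U S gh xh c₀ c₁) (a b P : Ω) :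
    xh * cyc a b P * xh = cyc (xh a) (xh b) (xh P) := by
  have := cyc_conj xh a b P; rwa [L.inv_x] at this

variable {G : Type} [Group G]

open Classical in
/-- A homomorphism on `gam U S`, as a function. -/
noncomputable def ext1 (π : gam U S →* G) (c : Perm Ω) : G :=
  if h : c ∈ gam U S then π ⟨c, h⟩ else 1

theorem ext1_mul (π : gam U S →* G) {c d : Perm Ω} (hc : c ∈ gam U S) (hd : d ∈ gam U S) :
    ext1 π (c * d) = ext1 π c * ext1 π d := by
  rw [ext1, ext1, ext1, dif_pos hc, dif_pos hd, dif_pos (mul_mem hc hd), ← map_mul]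
  rfl

theorem ext1_one (π : gam U S →* G) : ext1 π (1 : Perm Ω) = 1 := by
  rw [ext1, dif_pos (one_mem _)]
  exact π.map_one

theorem ext1_inv (π : gam U S →* G) {c : Perm Ω} (hc : c ∈ gam U S) :
    ext1 π c⁻¹ = (ext1 π c)⁻¹ := by
  rw [ext1, ext1, dif_pos hc, dif_pos (inv_mem hc), ← map_inv]
  rfl

/-- Membership of the second window. -/
def Mem2 (U : Subgroup ℤˣ) (S : Finset Ω) (gh c : Perm Ω) : Prop := gh * c * gh ∈ gam U S

variable (L : Layout U S gh xh c₀ c₁) (π : gam U S →* G) (g : G)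

include L

theorem mem2_iff {c : Perm Ω} : Mem2 U S gh c ↔ Perm.sign c ∈ U ∧ ∀ P, gh P ∉ S → c P = P := by
  rw [Mem2, mem_gam, L.conj_par]
  refine and_congr_right fun _ => ⟨fun h P hP => ?_, fun h P hP => ?_⟩
  · have := h _ hP
    rw [Perm.mul_apply, Perm.mul_apply, L.g_g] at this
    exact gh.injective (this)
  · rw [Perm.mul_apply, Perm.mul_apply, h _ (by rwa [L.g_g]), L.g_g]

set_option maxHeartbeats 1000000 in
/-- The order bound for the glued group. -/
theorem glue_card (hg : g * g = 1)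
    (hbraid : g * ext1 π xh * g = ext1 π xh * g * ext1 π xh)
    (hK : ∀ c ∈ gam U (S.filter fun P => gh P ∈ S), g * ext1 π c * g = ext1 π (gh * c * gh))
    (hgen : Subgroup.closure (Set.range π ∪ {g}) = ⊤) :
    Finite G ∧ Nat.card G ≤ Nat.card (parGroup U Ω) := by
  classical
  set x := ext1 π xh with hx
  set K := S.filter fun P => gh P ∈ S with hKdef
  have hKmem : ∀ P, P ∈ K ↔ P ∈ S ∧ gh P ∈ S := fun P => by simp [hKdef]
  have hxx : x * x = 1 := by
    rw [hx, ← ext1_mul π L.xmem L.xmem, L.xx, ext1_one]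
  let π2 : Perm Ω → G := fun c => g * ext1 π (gh * c * gh) * g
  have hKsub : K ⊆ S := Finset.filter_subset _ _
  have hKg : ∀ c ∈ gam U K, gh * c * gh ∈ gam U K := by
    intro c hc
    refine ⟨?_, fun P hP => ?_⟩
    · show Perm.sign (gh * c * gh) ∈ U
      rw [L.conj_par]; exact hc.1
    · have : gh P ∉ K := fun h => hP (by
        rw [hKmem] at h ⊢; rw [L.g_g] at h; exact ⟨h.2, h.1⟩)
      rw [Perm.mul_apply, Perm.mul_apply, hc.2 _ this, L.g_g]
  have hagree : ∀ c ∈ gam U K, π2 c = ext1 π c := by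
    intro c hc
    show g * ext1 π (gh * c * gh) * g = _
    rw [hK _ (hKg c hc)]
    congr 1
    simp only [mul_assoc]
    rw [L.gg, mul_one, ← mul_assoc, L.gg, one_mul]
  have hπ2mul : ∀ c d, Mem2 U S gh c → Mem2 U S gh d → π2 (c * d) = π2 c * π2 d := by
    intro c d hc hd
    show g * ext1 π (gh * (c * d) * gh) * g = _
    rw [show gh * (c * d) * gh = gh * c * gh * (gh * d * gh) by
      rw [show gh * c * gh * (gh * d * gh) = gh * c * (gh * gh) * d * gh by group, L.gg]; group,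
      ext1_mul π hc hd]
    simp only [π2]
    rw [show g * ext1 π (gh * c * gh) * g * (g * ext1 π (gh * d * gh) * g) =
      g * ext1 π (gh * c * gh) * (g * g) * ext1 π (gh * d * gh) * g by group, hg]
    group
  -- the key: `x` commutes past the second window
  have key : ∀ c, Mem2 U S gh c → Mem2 U S gh (xh * c * xh) →
      xh * (gh * c * gh) * xh ∈ gam U K → x * π2 c * x = π2 (xh * c * xh) := by
    intro c hc hc' hK'
    have hxg : x * g = g * x * g * x := by
      calc x * g = g * (g * x * g) := by rw [← mul_assoc, ← mul_assoc, hg, one_mul]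
        _ = g * (x * g * x) := by rw [hbraid]
        _ = _ := by group
    have hgx : g * x = x * g * x * g := by
      calc g * x = g * x * g * g := by rw [mul_assoc (g * x), hg, mul_one]
        _ = _ := by rw [hbraid]
    set q := gh * c * gh with hq
    have e1 : x * ext1 π q * x = ext1 π (xh * q * xh) := by
      rw [hx, ← ext1_mul π L.xmem hc, ← ext1_mul π (mul_mem L.xmem hc) L.xmem]
    calc x * π2 c * x = x * g * ext1 π q * (g * x) := by simp only [π2, hq]; group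
      _ = g * x * g * x * ext1 π q * (x * g * x * g) :=
          congrArg₂ (fun a b => a * ext1 π q * b) hxg hgx
      _ = g * (x * (g * (x * ext1 π q * x) * g) * x) * g := by group
      _ = g * (x * ext1 π (gh * (xh * q * xh) * gh) * x) * g := by rw [e1, hK _ hK']
      _ = g * ext1 π (xh * (gh * (xh * q * xh) * gh) * xh) * g := by
          have hm := gam_mono hKsub (hKg _ hK')
          rw [hx, ← ext1_mul π L.xmem hm, ← ext1_mul π (mul_mem L.xmem hm) L.xmem]
      _ = _ := by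
          show _ = g * ext1 π (gh * (xh * c * xh) * gh) * g
          congr 3
          calc xh * (gh * (xh * q * xh) * gh) * xh
              = xh * gh * xh * gh * c * (gh * (xh * gh * xh)) := by rw [hq]; group
            _ = gh * xh * gh * gh * c * (gh * (gh * xh * gh)) := by rw [← L.braid]
            _ = gh * xh * (gh * gh) * c * ((gh * gh) * xh * gh) := by group
            _ = _ := by rw [L.gg]; group
  -- the Carmichael family
  let Φ : Ω → G := fun P => if P ∈ S then ext1 π (cyc c₀ c₁ P) else π2 (cyc c₀ c₁ P)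
  let I : Type := {P : Ω // P ≠ c₀ ∧ P ≠ c₁}
  have hcS : ∀ {P}, P ≠ c₁ → P ∈ S → cyc c₀ c₁ P ∈ gam U S := fun hP hPS =>
    cyc_mem_gam L.ne hP.symm L.base₀.1 L.base₁.1 hPS
  have hc2 : ∀ {P}, P ≠ c₁ → gh P ∈ S → Mem2 U S gh (cyc c₀ c₁ P) := fun {P} hP hPS => by
    show _ ∈ gam U S
    rw [L.cyc_conj_g]
    exact cyc_mem_gam (gh.injective.ne L.ne) (gh.injective.ne hP.symm) L.base₀.2.1 L.base₁.2.1 hPS
  have hΦ2 : ∀ {P}, P ≠ c₁ → gh P ∈ S → Φ P = π2 (cyc c₀ c₁ P) := fun {P} hP hPS => by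
    simp only [Φ]
    split_ifs with h
    · exact (hagree _ (cyc_mem_gam L.ne hP.symm ((hKmem _).2 ⟨L.base₀.1, L.base₀.2.1⟩)
        ((hKmem _).2 ⟨L.base₁.1, L.base₁.2.1⟩) ((hKmem _).2 ⟨h, hPS⟩))).symm
    · rfl
  have hcyc3 : ∀ a b P : Ω, a ≠ b → a ≠ P → b ≠ P → cyc a b P ^ 3 = 1 :=
    fun _ _ _ => cyc_cube
  have hsq : ∀ P Q : Ω, P ≠ c₀ → P ≠ c₁ → Q ≠ c₀ → Q ≠ c₁ → P ≠ Q →
      cyc c₀ c₁ P * cyc c₀ c₁ Q * (cyc c₀ c₁ P * cyc c₀ c₁ Q) = 1 :=
    fun _ _ h0 h1 k0 k1 hPQ => cyc_pair L.ne h0.symm h1.symm k0.symm k1.symm hPQ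
  have hpow3 : ∀ i : I, Φ i ^ 3 = 1 := by
    rintro ⟨P, h0, h1⟩
    rw [pow_three]
    by_cases hP : P ∈ S
    · simp only [Φ, if_pos hP]
      rw [← ext1_mul π (hcS h1 hP) (hcS h1 hP), ← ext1_mul π (hcS h1 hP) (mul_mem (hcS h1 hP)
        (hcS h1 hP)), ← pow_three, hcyc3 _ _ _ L.ne h0.symm h1.symm, ext1_one]
    · have hgP := (L.cover P).resolve_left hP
      have hm := hc2 h1 hgP
      have hmm : Mem2 U S gh (cyc c₀ c₁ P * cyc c₀ c₁ P) := by
        rw [mem2_iff L] at hm ⊢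
        exact ⟨by rw [map_mul]; exact U.mul_mem hm.1 hm.1,
          fun Q hQ => by rw [Perm.mul_apply, hm.2 Q hQ, hm.2 Q hQ]⟩
      simp only [Φ, if_neg hP]
      rw [← hπ2mul _ _ hm hm, ← hπ2mul _ _ hm hmm, ← pow_three,
        hcyc3 _ _ _ L.ne h0.symm h1.symm]
      show g * ext1 π (gh * 1 * gh) * g = 1
      rw [mul_one, L.gg, ext1_one, mul_one, hg]
  have hsame2 : ∀ P Q, P ≠ c₀ → P ≠ c₁ → Q ≠ c₀ → Q ≠ c₁ → P ≠ Q → gh P ∈ S → gh Q ∈ S →
      (Φ P * Φ Q) ^ 2 = 1 := by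
    intro P Q h0 h1 k0 k1 hPQ hP hQ
    have hm : Mem2 U S gh (cyc c₀ c₁ P * cyc c₀ c₁ Q) := by
      have a := (mem2_iff L).1 (hc2 h1 hP)
      have b := (mem2_iff L).1 (hc2 k1 hQ)
      rw [mem2_iff L]
      exact ⟨by rw [map_mul]; exact U.mul_mem a.1 b.1,
        fun X hX => by rw [Perm.mul_apply, b.2 X hX, a.2 X hX]⟩
    rw [hΦ2 h1 hP, hΦ2 k1 hQ, ← hπ2mul _ _ (hc2 h1 hP) (hc2 k1 hQ), pow_two, ← hπ2mul _ _ hm hm,
      hsq P Q h0 h1 k0 k1 hPQ]
    show g * ext1 π (gh * 1 * gh) * g = 1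
    rw [mul_one, L.gg, ext1_one, mul_one, hg]
  have hcross : ∀ P Q, P ≠ c₀ → P ≠ c₁ → Q ≠ c₀ → Q ≠ c₁ → gh P ∉ S → Q ∉ S →
      (Φ Q * Φ P) ^ 2 = 1 := by
    intro P Q h0 h1 k0 k1 hP hQ
    have hPS : P ∈ S := (L.cover P).resolve_right hP
    have hQg : gh Q ∈ S := (L.cover Q).resolve_left hQ
    have hQx : xh Q = Q := L.xmem.2 Q hQ
    obtain ⟨hk, hkg⟩ := L.ends P hPS hP
    set b₀ := xh c₀ with hb₀
    set b₁ := xh c₁ with hb₁
    set k := xh P with hkdef
    have hbne : b₀ ≠ b₁ := xh.injective.ne L.ne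
    have hb₀S : b₀ ∈ S := supp_mapsTo L.xmem.2 L.base₀.1
    have hb₁S : b₁ ∈ S := supp_mapsTo L.xmem.2 L.base₁.1
    have hkb : b₁ ≠ k := xh.injective.ne h1.symm
    have hQb : b₁ ≠ Q := fun h => hQ (h ▸ hb₁S)
    have hQb0 : b₀ ≠ Q := fun h => hQ (h ▸ hb₀S)
    have hkQ : k ≠ Q := fun h => hQ (h ▸ hk)
    have hmQ : Mem2 U S gh (cyc b₀ b₁ Q) := by
      show _ ∈ gam U S
      rw [L.cyc_conj_g]
      exact cyc_mem_gam (gh.injective.ne hbne) (gh.injective.ne hQb) L.base₀.2.2.1 L.base₁.2.2.1 hQg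
    have hkK : cyc b₀ b₁ k ∈ gam U K :=
      cyc_mem_gam hbne hkb ((hKmem _).2 ⟨hb₀S, L.base₀.2.2.1⟩)
        ((hKmem _).2 ⟨hb₁S, L.base₁.2.2.1⟩) ((hKmem _).2 ⟨hk, hkg⟩)
    have hmk : Mem2 U S gh (cyc b₀ b₁ k) := gam_mono hKsub (hKg _ hkK)
    have eQ : x * π2 (cyc b₀ b₁ Q) * x = Φ Q := by
      rw [key _ hmQ]
      · rw [L.cyc_conj_x, hb₀, hb₁, L.x_x, L.x_x, hQx, hΦ2 k1 hQg]
      · rw [L.cyc_conj_x, hb₀, hb₁, L.x_x, L.x_x, hQx]; exact hc2 k1 hQg
      · rw [L.cyc_conj_g, L.cyc_conj_x]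
        have hq : xh (gh Q) ∈ S ∧ gh (xh (gh Q)) ∈ S := L.ends _ hQg (by rw [L.g_g]; exact hQ)
        exact cyc_mem_gam (xh.injective.ne (gh.injective.ne hbne))
          (xh.injective.ne (gh.injective.ne hQb))
          ((hKmem _).2 ⟨supp_mapsTo L.xmem.2 L.base₀.2.2.1, L.base₀.2.2.2⟩)
          ((hKmem _).2 ⟨supp_mapsTo L.xmem.2 L.base₁.2.2.1, L.base₁.2.2.2⟩) ((hKmem _).2 hq)
    have eP : x * ext1 π (cyc b₀ b₁ k) * x = Φ P := by
      have hm := gam_mono hKsub hkK
      rw [hx, ← ext1_mul π L.xmem hm, ← ext1_mul π (mul_mem L.xmem hm) L.xmem, L.cyc_conj_x,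
        hb₀, hb₁, hkdef, L.x_x, L.x_x, L.x_x]
      simp only [Φ, if_pos hPS]
    have hm : Mem2 U S gh (cyc b₀ b₁ Q * cyc b₀ b₁ k) := by
      have a := (mem2_iff L).1 hmQ
      have b := (mem2_iff L).1 hmk
      rw [mem2_iff L]
      exact ⟨by rw [map_mul]; exact U.mul_mem a.1 b.1,
        fun X hX => by rw [Perm.mul_apply, b.2 X hX, a.2 X hX]⟩
    have hs : (cyc b₀ b₁ Q * cyc b₀ b₁ k) * (cyc b₀ b₁ Q * cyc b₀ b₁ k) = 1 :=
      cyc_pair hbne hQb0 hQb (xh.injective.ne h0.symm) hkb hkQ.symm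
    have hprod : (π2 (cyc b₀ b₁ Q) * ext1 π (cyc b₀ b₁ k)) ^ 2 = 1 := by
      rw [← hagree _ hkK, ← hπ2mul _ _ hmQ hmk, pow_two, ← hπ2mul _ _ hm hm, hs]
      show g * ext1 π (gh * 1 * gh) * g = 1
      rw [mul_one, L.gg, ext1_one, mul_one, hg]
    rw [← eQ, ← eP, show x * π2 (cyc b₀ b₁ Q) * x * (x * ext1 π (cyc b₀ b₁ k) * x) =
      x * (π2 (cyc b₀ b₁ Q) * (x * x) * ext1 π (cyc b₀ b₁ k)) * x by group, hxx, mul_one]
    have hxi : x⁻¹ = x := inv_eq_of_mul_eq_one_right hxx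
    conv_lhs => arg 1; rw [show x * (π2 (cyc b₀ b₁ Q) * ext1 π (cyc b₀ b₁ k)) * x =
      x * (π2 (cyc b₀ b₁ Q) * ext1 π (cyc b₀ b₁ k)) * x⁻¹ by rw [hxi]]
    rw [conj_pow, hprod, mul_one, mul_inv_cancel]
  have hpair : ∀ i j : I, i ≠ j → (Φ i * Φ j) ^ 2 = 1 := by
    rintro ⟨P, h0, h1⟩ ⟨Q, k0, k1⟩ hne
    have hPQ : P ≠ Q := fun h => hne (Subtype.ext h)
    show (Φ P * Φ Q) ^ 2 = 1
    have flip : (Φ Q * Φ P) ^ 2 = 1 → (Φ P * Φ Q) ^ 2 = 1 := fun h => by
      rw [show Φ P * Φ Q = (Φ Q)⁻¹ * (Φ Q * Φ P) * (Φ Q)⁻¹⁻¹ by group, conj_pow, h, mul_one,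
        mul_inv_cancel]
    by_cases hP : P ∈ S
    · by_cases hQ : Q ∈ S
      · simp only [Φ, if_pos hP, if_pos hQ]
        rw [← ext1_mul π (hcS h1 hP) (hcS k1 hQ), pow_two,
          ← ext1_mul π (mul_mem (hcS h1 hP) (hcS k1 hQ)) (mul_mem (hcS h1 hP) (hcS k1 hQ)),
          hsq P Q h0 h1 k0 k1 hPQ, ext1_one]
      · by_cases hPg : gh P ∈ S
        · exact hsame2 P Q h0 h1 k0 k1 hPQ hPg ((L.cover Q).resolve_left hQ)
        · exact flip (hcross P Q h0 h1 k0 k1 hPg hQ)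
    · by_cases hQ : gh Q ∈ S
      · exact hsame2 P Q h0 h1 k0 k1 hPQ ((L.cover P).resolve_left hP) hQ
      · exact hcross Q P k0 k1 h0 h1 hQ hP
  obtain ⟨hfin, hle⟩ := card_le_carmichael' (P := Subgroup.closure (Set.range fun i : I => Φ i))
    (fun i : I => ⟨Φ i, Subgroup.subset_closure ⟨i, rfl⟩⟩) (fun i => Subtype.ext (hpow3 i))
    (fun i j hij => Subtype.ext (hpair i j hij))
    (by
      refine Subgroup.map_injective
        (Subgroup.closure (Set.range fun i : I => Φ i)).subtype_injective ?_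
      rw [MonoidHom.map_closure, ← MonoidHom.range_eq_map, Subgroup.range_subtype, ← Set.range_comp]
      rfl)
  set N := Subgroup.closure (Set.range fun i : I => Φ i) with hN
  have hcard : Fintype.card I + 2 = Fintype.card Ω := by
    have h1 : Fintype.card I = (Finset.univ \ {c₀, c₁} : Finset Ω).card := by
      rw [Fintype.card_subtype]
      congr 1
      ext P; simp [not_or]
    rw [h1, Finset.card_sdiff_of_subset (Finset.subset_univ _), Finset.card_univ,
      Finset.card_pair L.ne]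
    have := Finset.card_le_univ ({c₀, c₁} : Finset Ω)
    rw [Finset.card_pair L.ne] at this
    omega
  rw [hcard] at hle
  -- even permutations of both windows
  have heven1 : ∀ c ∈ gam U S, Perm.sign c = 1 → ext1 π c ∈ N := by
    intro c hc hs
    have h := mem_closure_cyc L.base₀.1 L.base₁.1 L.ne hs hc.2
    have : c ∈ gam U S ∧ ext1 π c ∈ N := by
      clear hc hs
      induction h using Subgroup.closure_induction with
      | mem y hy =>
        obtain ⟨P, hP, h0, h1, rfl⟩ := hy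
        refine ⟨hcS h1 hP, Subgroup.subset_closure ⟨⟨P, h0, h1⟩, ?_⟩⟩
        simp only [Φ, if_pos hP]
      | one => exact ⟨one_mem _, by rw [ext1_one]; exact N.one_mem⟩
      | mul a b _ _ ha hb =>
        exact ⟨mul_mem ha.1 hb.1, by rw [ext1_mul π ha.1 hb.1]; exact N.mul_mem ha.2 hb.2⟩
      | inv a _ ha => exact ⟨inv_mem ha.1, by rw [ext1_inv π ha.1]; exact N.inv_mem ha.2⟩
    exact this.2
  have heven2 : ∀ c, Mem2 U S gh c → Perm.sign c = 1 → π2 c ∈ N := by
    intro c hc hs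
    let S2 := Finset.univ.filter fun P => gh P ∈ S
    have h := mem_closure_cyc (S := S2) (a := c₀) (b := c₁) (by simp [S2, L.base₀.2.1])
      (by simp [S2, L.base₁.2.1]) L.ne hs
      (fun P hP => ((mem2_iff L).1 hc).2 P (by simpa [S2] using hP))
    have : Mem2 U S gh c ∧ π2 c ∈ N := by
      clear hc hs
      induction h using Subgroup.closure_induction with
      | mem y hy =>
        obtain ⟨P, hP, h0, h1, rfl⟩ := hy
        have hP' : gh P ∈ S := by simpa [S2] using hP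
        exact ⟨hc2 h1 hP', by
          rw [← hΦ2 h1 hP']; exact Subgroup.subset_closure ⟨⟨P, h0, h1⟩, rfl⟩⟩
      | one =>
        refine ⟨?_, ?_⟩
        · show gh * 1 * gh ∈ gam U S
          rw [mul_one, L.gg]; exact one_mem _
        · show g * ext1 π (gh * 1 * gh) * g ∈ N
          rw [mul_one, L.gg, ext1_one, mul_one, hg]; exact N.one_mem
      | mul a b _ _ ha hb =>
        refine ⟨?_, by rw [hπ2mul _ _ ha.1 hb.1]; exact N.mul_mem ha.2 hb.2⟩
        have a' := (mem2_iff L).1 ha.1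
        have b' := (mem2_iff L).1 hb.1
        rw [mem2_iff L]
        exact ⟨by rw [map_mul]; exact U.mul_mem a'.1 b'.1,
          fun X hX => by rw [Perm.mul_apply, b'.2 X hX, a'.2 X hX]⟩
      | inv a _ ha =>
        have ei : gh * a⁻¹ * gh = (gh * a * gh)⁻¹ := by
          rw [mul_inv_rev, mul_inv_rev, L.inv_g]; group
        have hi : Mem2 U S gh a⁻¹ := by
          show _ ∈ gam U S
          rw [ei]; exact inv_mem ha.1
        refine ⟨hi, ?_⟩
        have : π2 a⁻¹ = (π2 a)⁻¹ := by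
          show g * ext1 π (gh * a⁻¹ * gh) * g = (g * ext1 π (gh * a * gh) * g)⁻¹
          rw [ei, ext1_inv π ha.1, mul_inv_rev, mul_inv_rev, inv_eq_of_mul_eq_one_right hg,
            mul_assoc]
        rw [this]; exact N.inv_mem ha.2
    exact this.2
  -- the transposition of the base pair
  set τ := swap c₀ c₁ with hτ
  set t := ext1 π τ with ht
  have hτsupp : ∀ P ∉ K, τ P = P := fun P hP => swap_apply_of_ne_of_ne
    (fun h => hP (h ▸ (hKmem _).2 ⟨L.base₀.1, L.base₀.2.1⟩))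
    (fun h => hP (h ▸ (hKmem _).2 ⟨L.base₁.1, L.base₁.2.1⟩))
  have htt : t * t = 1 := by
    by_cases h : τ ∈ gam U S
    · rw [ht, ← ext1_mul π h h, hτ, Equiv.swap_mul_self, ext1_one]
    · rw [ht, ext1, dif_neg h, mul_one]
  have htconj : ∀ y ∈ N, t * y * t⁻¹ ∈ N := by
    rw [inv_eq_of_mul_eq_one_right htt]
    by_cases hτS : τ ∈ gam U S
    swap
    · intro y hy
      rwa [ht, ext1, dif_neg hτS, mul_one, one_mul]
    have hτK : τ ∈ gam U K := ⟨hτS.1, hτsupp⟩
    have ht2 : π2 τ = t := hagree τ hτK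
    have hτ2 : Mem2 U S gh τ := gam_mono hKsub (hKg _ hτK)
    intro y hy
    induction hy using Subgroup.closure_induction with
    | mem y hy =>
      obtain ⟨⟨P, h0, h1⟩, rfl⟩ := hy
      show t * Φ P * t ∈ N
      have hsgn : Perm.sign (τ * cyc c₀ c₁ P * τ) = 1 := by
        rw [map_mul, map_mul, mul_right_comm, Int.units_mul_self, one_mul, cyc, map_mul,
          sign_swap L.ne, sign_swap h1.symm, Int.units_mul_self]
      by_cases hP : P ∈ S
      · simp only [Φ, if_pos hP]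
        rw [ht, ← ext1_mul π hτS (hcS h1 hP), ← ext1_mul π (mul_mem hτS (hcS h1 hP)) hτS]
        exact heven1 _ (mul_mem (mul_mem hτS (hcS h1 hP)) hτS) hsgn
      · have hgP := (L.cover P).resolve_left hP
        rw [hΦ2 h1 hgP, ← ht2, ← hπ2mul _ _ hτ2 (hc2 h1 hgP)]
        have a := (mem2_iff L).1 hτ2
        have b := (mem2_iff L).1 (hc2 h1 hgP)
        have hm : Mem2 U S gh (τ * cyc c₀ c₁ P) := by
          rw [mem2_iff L]
          exact ⟨by rw [map_mul]; exact U.mul_mem a.1 b.1,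
            fun X hX => by rw [Perm.mul_apply, b.2 X hX, a.2 X hX]⟩
        rw [← hπ2mul _ _ hm hτ2]
        refine heven2 _ ?_ hsgn
        have c' := (mem2_iff L).1 hm
        rw [mem2_iff L]
        exact ⟨by rw [map_mul]; exact U.mul_mem c'.1 a.1,
          fun X hX => by rw [Perm.mul_apply, a.2 X hX, c'.2 X hX]⟩
    | one => rw [mul_one, htt]; exact N.one_mem
    | mul a b _ _ ha hb =>
      rw [show t * (a * b) * t = t * a * t * (t * b * t) by
        rw [show t * a * t * (t * b * t) = t * a * (t * t) * b * t by group, htt]; group]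
      exact N.mul_mem ha hb
    | inv a _ ha =>
      rw [show t * a⁻¹ * t = (t * a * t)⁻¹ by
        rw [mul_inv_rev, mul_inv_rev, inv_eq_of_mul_eq_one_right htt, mul_assoc]]
      exact N.inv_mem ha
  have hti : t⁻¹ = t := inv_eq_of_mul_eq_one_right htt
  obtain ⟨hMf, hMc⟩ := card_closure_insert N t htconj
    (fun y hy => by have := htconj y hy; rwa [hti] at this ⊢) (by rw [htt]; exact N.one_mem)
  set M := Subgroup.closure (↑N ∪ {t} : Set G)
  have hNM : N ≤ M := fun y hy => Subgroup.subset_closure (Or.inl hy)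
  have htM : t ∈ M := Subgroup.subset_closure (Or.inr rfl)
  have hodd : ∀ c : Perm Ω, Perm.sign c ∈ U → Perm.sign c ≠ 1 → τ ∈ gam U K ∧
      Perm.sign (c * τ) = 1 := by
    intro c hc hs
    have e : Perm.sign τ = Perm.sign c := by
      rcases Int.units_eq_one_or (Perm.sign c) with h | h
      · exact absurd h hs
      · rw [h, hτ, sign_swap L.ne]
    exact ⟨⟨show Perm.sign τ ∈ U by rw [e]; exact hc, hτsupp⟩, by rw [map_mul, e, Int.units_mul_self]⟩
  have hall1 : ∀ c ∈ gam U S, ext1 π c ∈ M := by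
    intro c hc
    by_cases hs : Perm.sign c = 1
    · exact hNM (heven1 c hc hs)
    obtain ⟨hτK, hs'⟩ := hodd c hc.1 hs
    have hτS := gam_mono hKsub hτK
    rw [show c = c * τ * τ by rw [mul_assoc, hτ, Equiv.swap_mul_self, mul_one],
      ext1_mul π (mul_mem hc hτS) hτS]
    exact M.mul_mem (hNM (heven1 _ (mul_mem hc hτS) hs')) htM
  have hall2 : ∀ c, Mem2 U S gh c → π2 c ∈ M := by
    intro c hc
    by_cases hs : Perm.sign c = 1
    · exact hNM (heven2 c hc hs)
    have hc' := (mem2_iff L).1 hc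
    obtain ⟨hτK, hs'⟩ := hodd c hc'.1 hs
    have hτ2 : Mem2 U S gh τ := gam_mono hKsub (hKg _ hτK)
    have a := (mem2_iff L).1 hτ2
    have hm : Mem2 U S gh (c * τ) := by
      rw [mem2_iff L]
      exact ⟨by rw [map_mul]; exact U.mul_mem hc'.1 a.1,
        fun X hX => by rw [Perm.mul_apply, a.2 X hX, hc'.2 X hX]⟩
    rw [show c = c * τ * τ by rw [mul_assoc, hτ, Equiv.swap_mul_self, mul_one],
      hπ2mul _ _ hm hτ2, hagree τ hτK]
    exact M.mul_mem (hNM (heven2 _ hm hs')) htM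
  have hgM : g ∈ M := by
    have h2 : π2 (gh * xh * gh) = g * x * g := by
      show g * ext1 π (gh * (gh * xh * gh) * gh) * g = _
      rw [show gh * (gh * xh * gh) * gh = (gh * gh) * xh * (gh * gh) by group, L.gg, one_mul, mul_one]
    have hm : Mem2 U S gh (gh * xh * gh) := by
      show _ ∈ gam U S
      rw [show gh * (gh * xh * gh) * gh = (gh * gh) * xh * (gh * gh) by group, L.gg, one_mul, mul_one]
      exact L.xmem
    have e : g = x * (g * x * g) * x := by
      rw [hbraid, show x * (x * g * x) * x = (x * x) * g * (x * x) by group, hxx]; group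
    rw [e, ← h2]
    exact M.mul_mem (M.mul_mem (hall1 _ L.xmem) (hall2 _ hm)) (hall1 _ L.xmem)
  have hMtop : M = ⊤ := by
    rw [eq_top_iff, ← hgen, Subgroup.closure_le]
    rintro y (⟨c, rfl⟩ | rfl)
    · have := hall1 c c.2
      rwa [ext1, dif_pos c.2] at this
    · exact hgM
  have hbot : U = ⊥ → M = N := by
    intro hU
    refine le_antisymm ?_ hNM
    rw [Subgroup.closure_le]
    rintro y (hy | rfl)
    · exact hy
    · show t ∈ N
      rw [ht, ext1, dif_neg]
      · exact N.one_mem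
      · intro h
        have : Perm.sign τ ∈ U := h.1
        rw [hU, Subgroup.mem_bot, hτ, sign_swap L.ne] at this
        exact absurd this (by decide)
  have hGf : Finite G := by
    have := hMf
    exact Finite.of_injective (fun y : G => (⟨y, hMtop ▸ Subgroup.mem_top y⟩ : M))
      fun a b h => congrArg Subtype.val h
  refine ⟨hGf, ?_⟩
  have hGM : Nat.card G = Nat.card M := by rw [hMtop, Subgroup.card_top]
  rcases L.par with hU | hU
  · subst hU
    haveI : Nontrivial Ω := ⟨c₀, c₁, L.ne⟩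
    have e := hbot rfl
    rw [hGM, e]
    have := par_card_bot (α := Ω)
    omega
  · subst hU
    rw [hGM, par_card_top]
    omega

end Cfsg.Agent.H68.ShortAlt
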