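import Cfsg.Agent.H68.ShortAlt.Target
import Cfsg.Agent.H99.AltBounded

/-!
Degrees `p + 2` and, for the alternating groups, `p + 3`: the window alone, and the window with
one three-cycle commuting with the translation.
-/

set_option autoImplicit false
set_option linter.unusedSectionVars false

namespace Cfsg.Agent.H68.ShortAlt

open Equiv Equiv.Perm
open Cfsg.Agent.H99.BoundedPres

variable {p : ℕ} [Fact p.Prime]

/-- A section on the generators gives injectivity. -/
theorem injective_of_section {T G : Type} [Group T] [Group G] {f : Fin 2 → T}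
    {π : FreeGroup (Fin 2) →* G} (hπ : Function.Surjective π) {θ : G →* T}
    (hθ : θ.comp π = FreeGroup.lift f) (φ : T →* G) (hφ : ∀ i, φ (f i) = π (FreeGroup.of i)) :
    Function.Injective θ := by
  have h : ∀ w, φ (θ (π w)) = π w := fun w => by
    refine DFunLike.congr_fun (f := φ.comp (θ.comp π)) (g := π)
      (FreeGroup.ext_hom _ _ fun i => ?_) w
    rw [hθ, MonoidHom.comp_apply, FreeGroup.lift_apply_of, hφ]
  intro a b hab
  obtain ⟨u, rfl⟩ := hπ a
  obtain ⟨v, rfl⟩ := hπ b
  rw [← h u, ← h v, hab]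

/-- The list of the relations of a window. -/
def relList (p s : ℕ) (ε : ℤˣ) (a W z : FreeGroup (Fin 2)) :
    List (FreeGroup (Fin 2) × FreeGroup (Fin 2)) :=
  [(a ^ p, W ^ (p - 1)), (W * a ^ s * W⁻¹, a ^ (s + 1)), (W * z * W⁻¹, z ^ (ε : ℤ)),
    ((z * (a * z * a⁻¹)) ^ 2, 1)]

theorem relList_iff {G : Type} [Group G] (φ : FreeGroup (Fin 2) →* G) (s : ℕ) (ε : ℤˣ)
    (a W z : FreeGroup (Fin 2)) :
    (∀ r ∈ relList p s ε a W z, φ r.1 = φ r.2) ↔ Rels p s ε (φ a) (φ W) (φ z) := by
  simp only [relList, List.forall_mem_cons, List.not_mem_nil, IsEmpty.forall_iff, implies_true,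
    and_true, map_pow, map_mul, map_inv, map_one, map_zpow, Rels]

theorem lift_comp_sub {G : Type} [Group G] (g v : Fin 2 → FreeGroup (Fin 2)) (h : Fin 2 → G)
    (hv : ∀ i, g i = v i) (w : FreeGroup (Fin 2)) :
    FreeGroup.lift h (FreeGroup.lift g w) = FreeGroup.lift (fun i => FreeGroup.lift h (v i)) w := by
  refine DFunLike.congr_fun (f := (FreeGroup.lift h).comp (FreeGroup.lift g))
    (g := FreeGroup.lift fun i => FreeGroup.lift h (v i)) (FreeGroup.ext_hom _ _ fun i => ?_) w
  simp [hv]

theorem map_sub {G : Type} [Group G] (π : FreeGroup (Fin 2) →* G) (v : Fin 2 → FreeGroup (Fin 2))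
    (w : FreeGroup (Fin 2)) :
    π (FreeGroup.lift v w) = FreeGroup.lift (fun i => π (v i)) w := by
  refine DFunLike.congr_fun (f := π.comp (FreeGroup.lift v))
    (g := FreeGroup.lift fun i => π (v i)) (FreeGroup.ext_hom _ _ fun i => ?_) w
  simp

theorem map_eq_lift {G : Type} [Group G] (π : FreeGroup (Fin 2) →* G) (w : FreeGroup (Fin 2)) :
    π w = FreeGroup.lift (fun i => π (FreeGroup.of i)) w :=
  DFunLike.congr_fun (f := π) (g := FreeGroup.lift fun i => π (FreeGroup.of i))
    (FreeGroup.ext_hom _ _ fun i => by simp) w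

/-- Degree `p + 2`. -/
theorem hasPres_window_par (hp : 5 ≤ p) {U : Subgroup ℤˣ} (hU : U = ⊥ ∨ U = ⊤) :
    HasPres (parGroup U (Fin 2 ⊕ ZMod p)) 2 5 := by
  obtain ⟨f, wA, wW, wx, s, ε, hfz, hgen, hrel0, -, huniv⟩ := exists_window hp hU
  refine HasPres.of_list (relList p s ε wA wW (FreeGroup.of 1) ++ [(FreeGroup.of 1 ^ 3, 1)]) le_rfl
    f hgen ?_ ?_
  · intro r hr
    rcases List.mem_append.1 hr with h | h
    · exact (relList_iff (FreeGroup.lift f) s ε wA wW _).2
        (by rw [FreeGroup.lift_apply_of]; exact hrel0) r h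
    · rw [List.mem_singleton] at h
      subst h
      rw [map_pow, map_one, FreeGroup.lift_apply_of]
      exact Subtype.ext (by rw [SubgroupClass.coe_pow, hfz]; exact zPerm_cube 0)
  · intro G _ π hπ hrel θ hθ
    have h4 := (relList_iff π s ε wA wW _).1 fun r hr => hrel r (List.mem_append_left _ hr)
    have h3 := hrel _ (List.mem_append_right _ (List.mem_singleton_self _))
    rw [map_eq_lift π wA, map_eq_lift π wW] at h4
    obtain ⟨φ, hφ⟩ := (huniv G (fun i => π (FreeGroup.of i)) h4).2 (by simpa using h3)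
    exact injective_of_section hπ hθ φ hφ

/-- Degree `p + 3`, alternating. -/
theorem hasPres_window_succ (hp : 5 ≤ p) :
    HasPres (parGroup ⊥ (Fin 2 ⊕ Option (ZMod p))) 2 6 := by
  classical
  have hp2 : p ≠ 2 := by omega
  have hpp : p.Prime := Fact.out
  obtain ⟨r, hr⟩ := IsCyclic.exists_generator (α := (ZMod p)ˣ)
  obtain ⟨hr1, hsgn, -⟩ := generator_facts hp hr
  set A₀ : alternatingGroup (Fin 2 ⊕ ZMod p) := twist (addP p) with hA₀
  set B₀ : alternatingGroup (Fin 2 ⊕ ZMod p) := twist (mulP r) with hB₀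
  have hsA : Perm.sign (addP p) = 1 := sign_addRight p hp2
  have hAz : ∀ n : ℕ, A₀ ^ n * zA 0 * (A₀ ^ n)⁻¹ = zA (n : ZMod p) := fun n => by
    have := twist_add_z p hp2 n (0 : ZMod p)
    rwa [zero_add] at this
  have hAgen : Subgroup.closure (Set.range ![A₀, zA 0]) = ⊤ := by
    rw [eq_top_iff, ← zA_gen, Subgroup.closure_le]
    rintro _ ⟨i, rfl⟩
    have := hAz i.val
    rw [ZMod.natCast_zmod_val] at this
    rw [SetLike.mem_coe, ← this]
    have ha : A₀ ∈ Subgroup.closure (Set.range ![A₀, zA 0]) := Subgroup.subset_closure ⟨0, rfl⟩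
    exact mul_mem (mul_mem (pow_mem ha _) (Subgroup.subset_closure ⟨1, rfl⟩)) (inv_mem (pow_mem ha _))
  obtain ⟨wb, hwb⟩ := exists_word hAgen B₀
  -- the embedding of the window and the extra cycle
  let eI : ZMod p ↪ Option (ZMod p) := Function.Embedding.some
  let T := parGroup ⊥ (Fin 2 ⊕ Option (ZMod p))
  have halt : parGroup ⊥ (Fin 2 ⊕ Option (ZMod p)) = alternatingGroup (Fin 2 ⊕ Option (ZMod p)) := by
    ext c; rw [mem_parGroup, Subgroup.mem_bot, mem_alternatingGroup]
  let ι := MulEquiv.subgroupCongr halt.symm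
  let σ : Perm (Option (ZMod p)) := Equiv.optionCongr (addP p)
  have hσ : Perm.sign σ = 1 := by rw [Equiv.optionCongr_sign, hsA]
  let Y : alternatingGroup (Fin 2 ⊕ Option (ZMod p)) := zA none
  let A' : alternatingGroup (Fin 2 ⊕ Option (ZMod p)) := twist σ
  have hAY : Commute A' Y := by
    have h := twist_z σ (none : Option (ZMod p))
    rw [hσ, Units.val_one, zpow_one, show σ none = none from rfl] at h
    exact mul_inv_eq_iff_eq_mul.1 h
  have hA'p : A' ^ p = 1 := by
    show twist σ ^ p = 1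
    rw [← map_pow]
    have : σ ^ p = 1 := by
      have hpow : ∀ n : ℕ, σ ^ n = Equiv.optionCongr (addP p ^ n) := by
        intro n
        induction n with
        | zero => simp
        | succ n ih =>
          rw [pow_succ, ih, pow_succ]
          ext x <;> cases x <;> simp [σ]
      rw [hpow, addP_pow_p]; simp
    rw [this, map_one]
  obtain ⟨i, hi3⟩ : ∃ i, 3 * i % p = 1 := by
    refine ⟨((3 : ZMod p)⁻¹).val, ?_⟩
    have h3 : (3 : ZMod p) ≠ 0 := by
      have := cast_ne (p := p) (a := 3) (b := 0) (by omega) (by omega) (by omega)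
      simpa using this
    have : ((3 * ((3 : ZMod p)⁻¹).val : ℕ) : ZMod p) = 1 := by
      rw [Nat.cast_mul, ZMod.natCast_zmod_val]; exact mul_inv_cancel₀ h3
    have := congrArg ZMod.val this
    rwa [ZMod.val_natCast, ZMod.val_one] at this
  obtain ⟨j, hj3⟩ : ∃ j, p * j % 3 = 1 := by
    have h3 : p % 3 ≠ 0 := fun h => by
      have := (Nat.prime_dvd_prime_iff_eq Nat.prime_three hpp).1 (Nat.dvd_of_mod_eq_zero h); omega
    rcases (show p % 3 = 1 ∨ p % 3 = 2 by omega) with h | h
    · exact ⟨1, by rw [mul_one]; exact h⟩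
    · exact ⟨2, by omega⟩
  set E₀ := A' ^ i * Y ^ j with hE₀
  have hY3 : Y ^ 3 = 1 := zA_cube none
  have hA'i : A' ^ (i * 3) = A' := by
    rw [pow_eq_pow_mod _ hA'p, mul_comm, hi3, pow_one]
  have hYj : Y ^ (j * p) = Y := by
    rw [pow_eq_pow_mod _ hY3, mul_comm, hj3, pow_one]
  have hE3 : E₀ ^ 3 = A' := by
    rw [hE₀, (hAY.pow_pow i j).mul_pow, ← pow_mul, ← pow_mul, mul_comm j 3, pow_mul Y, hY3, one_pow,
      mul_one, hA'i]
  have hEp : E₀ ^ p = Y := by
    rw [hE₀, (hAY.pow_pow i j).mul_pow, ← pow_mul, ← pow_mul, mul_comm i p, pow_mul A', hA'p,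
      one_pow, one_mul, hYj]
  set f : Fin 2 → T := ![ι E₀, ι (zA (some 0))] with hf
  set e := FreeGroup.of (0 : Fin 2)
  set z := FreeGroup.of (1 : Fin 2)
  set v : Fin 2 → FreeGroup (Fin 2) := ![e ^ 3, z] with hv
  let incl := altMap (I := Option (ZMod p)) (J := ZMod p) Function.Embedding.some
  have hiA : incl A₀ = A' := by
    show altMap Function.Embedding.some (twist (addP p)) = twist σ
    rw [altMap_twist]
    congr 1
    refine Equiv.ext fun x => ?_
    rcases x with _ | x
    · rw [Equiv.Perm.viaEmbedding_apply_of_notMem _ _ _ (by rintro ⟨y, h⟩; cases h)]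
      rfl
    · exact Equiv.Perm.viaEmbedding_apply _ _ x
  have hiZ : ∀ q : ZMod p, incl (zA q) = zA (some q) := fun q =>
    altMap_zA Function.Embedding.some q
  have hflift : ∀ w, FreeGroup.lift f (FreeGroup.lift v w) =
      ι (incl (FreeGroup.lift ![A₀, zA 0] w)) := fun w => by
    refine DFunLike.congr_fun (f := (FreeGroup.lift f).comp (FreeGroup.lift v))
      (g := ι.toMonoidHom.comp (incl.comp (FreeGroup.lift ![A₀, zA 0])))
      (FreeGroup.ext_hom _ _ fun k => ?_) w
    fin_cases k
    · simp [hv, hf, e, hiA, ← map_pow ι, hE3]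
    · simp [hv, hf, z, hiZ]
  have hzT : ∀ q : ZMod p, (ι (zA (some q)) : T) ∈ Subgroup.closure (Set.range f) := by
    intro q
    obtain ⟨w, hw⟩ := exists_word hAgen (zA q)
    rw [← hiZ, ← hw, ← hflift, ← FreeGroup.range_lift_eq_closure]
    exact ⟨_, rfl⟩
  have hgen : Subgroup.closure (Set.range f) = ⊤ := by
    rw [eq_top_iff]
    intro x hx
    clear hx
    obtain ⟨y, rfl⟩ := ι.surjective x
    have hy : y ∈ Subgroup.closure (Set.range (zA (I := Option (ZMod p)))) := by
      rw [zA_gen]; trivial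
    clear_value ι
    induction hy using Subgroup.closure_induction with
    | mem y hy =>
      obtain ⟨(_ | q), rfl⟩ := hy
      · show ι Y ∈ _
        rw [← hEp, map_pow]
        exact pow_mem (Subgroup.subset_closure (k := Set.range f) ⟨0, rfl⟩) _
      · exact hzT q
    | one => rw [map_one]; exact one_mem _
    | mul a b _ _ ha hb => rw [map_mul]; exact mul_mem ha hb
    | inv a _ ha => rw [map_inv]; exact inv_mem ha
  refine HasPres.of_list (relList p (sExp r) (-1) (e ^ 3) (FreeGroup.lift v wb) z ++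
    [(z ^ 3, 1), ((z * e ^ p) ^ 2, 1)]) le_rfl f hgen ?_ ?_
  · intro q hq
    rcases List.mem_append.1 hq with h | h
    · refine (relList_iff (FreeGroup.lift f) (sExp r) (-1) _ _ _).2 ?_ q h
      rw [show FreeGroup.lift f (e ^ 3) = ι A' by simp [hf, e, ← map_pow ι, hE3],
        hflift, hwb, show FreeGroup.lift f z = ι (zA (some 0)) by simp [hf, z], ← hiA, ← hiZ]
      obtain ⟨hBp, hBA⟩ := agl_perm hr1
      refine ⟨?_, ?_, ?_, ?_⟩
      · rw [← map_pow ι, ← map_pow incl, ← map_pow ι, ← map_pow incl]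
        congr 2
        rw [hA₀, hB₀, ← map_pow twist, ← map_pow twist, addP_pow_p, hBp]
      · rw [← map_pow ι, ← map_pow incl, ← map_pow ι, ← map_pow incl, ← map_inv ι, ← map_mul ι,
          ← map_mul ι, ← map_inv incl, ← map_mul incl, ← map_mul incl]
        congr 2
        rw [hA₀, hB₀, ← map_pow twist, ← map_pow twist, ← map_inv twist, ← map_mul twist,
          ← map_mul twist, hBA]
      · rw [← map_zpow ι, ← map_zpow incl, ← map_inv ι, ← map_mul ι, ← map_mul ι, ← map_inv incl,
          ← map_mul incl, ← map_mul incl]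
        congr 2
        rw [hB₀, twist_z, hsgn]
        congr 2
        exact mul_zero _
      · rw [← map_inv ι, ← map_mul ι, ← map_mul ι, ← map_mul ι, ← map_pow ι, ← map_inv incl,
          ← map_mul incl, ← map_mul incl, ← map_mul incl, ← map_pow incl]
        have h1 := hAz 1
        rw [pow_one, Nat.cast_one] at h1
        rw [h1, zA_pair 0 1 zero_ne_one, map_one, map_one]
    · simp only [List.mem_cons, List.not_mem_nil, or_false] at h
      rcases h with rfl | rfl
      · rw [map_pow, map_one, show FreeGroup.lift f z = ι (zA (some 0)) by simp [hf, z],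
          ← map_pow ι, zA_cube, map_one]
      · rw [map_pow, map_mul, map_one, map_pow, show FreeGroup.lift f z = ι (zA (some 0)) by
          simp [hf, z], show FreeGroup.lift f e = ι E₀ by simp [hf, e], ← map_pow ι, hEp,
          ← map_mul ι, ← map_pow ι, zA_pair _ _ (Option.some_ne_none 0), map_one]
  · intro G _ π hπ hrel θ hθ
    have h4 := (relList_iff π (sExp r) (-1) _ _ _).1 fun q hq => hrel q (List.mem_append_left _ hq)
    have h3 := hrel (z ^ 3, 1) (List.mem_append_right _ (by simp))
    have hy := hrel ((z * e ^ p) ^ 2, 1) (List.mem_append_right _ (by simp))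
    simp only [map_pow, map_mul, map_one] at h3 hy
    set E := π e
    set Zc := π z
    have hW : π (FreeGroup.lift v wb) = FreeGroup.lift ![E ^ 3, Zc] wb := by
      rw [map_sub]
      congr 2
      funext k; fin_cases k <;> simp [hv, E, Zc]
    rw [map_pow, hW] at h4
    obtain ⟨hfin, hle⟩ := window_alt_bound hr hr1 wb h4 h3
    obtain ⟨ha, -, hWa⟩ := agl_rels hr1 h4.1 h4.2.1
    obtain ⟨zg, hz0, htr, -, -, -⟩ := window_family hr ha hWa h4.2.2.1 h3 h4.2.2.2
    set y := E ^ p with hydef
    have hy3 : y ^ 3 = 1 := by rw [hydef, ← pow_mul, mul_comm, pow_mul]; exact ha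
    have hcomm : Commute (E ^ 3) y := Commute.pow_pow_self E 3 p
    -- a map on the window
    obtain ⟨φ, hφ⟩ : ∃ φ : alternatingGroup (Fin 2 ⊕ ZMod p) →* G,
        φ A₀ = E ^ 3 ∧ φ (zA 0) = Zc := by
      have h := exists_hom_of_bound (T := alternatingGroup (Fin 2 ⊕ ZMod p)) (G := G)
        (f := ![A₀, zA 0]) hAgen (g := ![E ^ 3, Zc]) ?_
      · obtain ⟨φ, hφ⟩ := h
        exact ⟨φ, hφ 0, hφ 1⟩
      · have e2 : (fun k => ((![A₀, zA 0] : Fin 2 → _) k, (![E ^ 3, Zc] : Fin 2 → G) k)) =
            ![(A₀, E ^ 3), (zA 0, Zc)] := by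
          funext k; fin_cases k <;> rfl
        have hl : ∀ w, FreeGroup.lift ![(A₀, E ^ 3), (zA 0, Zc)] w =
            (FreeGroup.lift ![A₀, zA 0] w, FreeGroup.lift ![E ^ 3, Zc] w) := fun w => by
          refine DFunLike.congr_fun (f := FreeGroup.lift ![(A₀, E ^ 3), (zA 0, Zc)])
            (g := (FreeGroup.lift ![A₀, zA 0]).prod (FreeGroup.lift ![E ^ 3, Zc]))
            (FreeGroup.ext_hom _ _ fun i => ?_) w
          fin_cases i <;> simp
        obtain ⟨hBp, hBA⟩ := agl_perm hr1
        have hR : Rels p (sExp r) (-1) (A₀, E ^ 3)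
            (FreeGroup.lift ![(A₀, E ^ 3), (zA 0, Zc)] wb) (zA 0, Zc) := by
          rw [hl, hwb]
          refine ⟨Prod.ext ?_ h4.1, Prod.ext ?_ h4.2.1, Prod.ext ?_ h4.2.2.1, Prod.ext ?_ h4.2.2.2⟩
          · show A₀ ^ p = B₀ ^ (p - 1)
            rw [hA₀, hB₀, ← map_pow twist, ← map_pow twist, addP_pow_p, hBp]
          · show B₀ * A₀ ^ sExp r * B₀⁻¹ = A₀ ^ (sExp r + 1)
            rw [hA₀, hB₀, ← map_pow twist, ← map_pow twist, ← map_inv twist, ← map_mul twist,
              ← map_mul twist, hBA]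
          · show B₀ * zA 0 * B₀⁻¹ = zA 0 ^ ((-1 : ℤˣ) : ℤ)
            rw [hB₀, twist_z, hsgn]
            congr 2
            exact mul_zero _
          · show (zA 0 * (A₀ * zA 0 * A₀⁻¹)) ^ 2 = 1
            have h1 := hAz 1
            rw [pow_one, Nat.cast_one] at h1
            rw [h1]; exact zA_pair 0 1 zero_ne_one
        obtain ⟨hf2, hle2⟩ := window_alt_bound hr hr1 wb hR (Prod.ext (zA_cube 0) h3)
        rw [e2]
        refine ⟨hf2, ?_⟩
        have hT := two_mul_card (I := ZMod p)
        rw [ZMod.card] at hT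
        omega
    obtain ⟨hφA, hφZ⟩ := hφ
    let Z : Option (ZMod p) → G := fun o => o.elim y fun q => φ (zA q)
    have hyq : ∀ q : ZMod p, (φ (zA q) * y) ^ 2 = 1 := by
      intro q
      have e1 : φ (zA q) * y = (E ^ 3) ^ q.val * (Zc * y) * ((E ^ 3) ^ q.val)⁻¹ := by
        have h1 : φ (zA q) = (E ^ 3) ^ q.val * Zc * ((E ^ 3) ^ q.val)⁻¹ := by
          rw [← hφA, ← hφZ, ← map_pow, ← map_inv, ← map_mul, ← map_mul, hAz,
            ZMod.natCast_zmod_val]
        have h2 : y = (E ^ 3) ^ q.val * y * ((E ^ 3) ^ q.val)⁻¹ := by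
          rw [(hcomm.pow_left q.val).eq, mul_inv_cancel_right]
        rw [h1]
        conv_lhs => arg 2; rw [h2]
        group
      rw [e1, conj_pow, hy, mul_one, mul_inv_cancel]
    obtain ⟨hfN, hleN⟩ := card_le_carmichael' (P := Subgroup.closure (Set.range Z))
      (fun o : Option (ZMod p) => ⟨Z o, Subgroup.subset_closure ⟨o, rfl⟩⟩)
      (fun o => Subtype.ext (by
        rcases o with _ | q
        · exact hy3
        · show φ (zA q) ^ 3 = 1
          rw [← map_pow, zA_cube, map_one]))
      (fun a b hab => Subtype.ext (by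
        rcases a with _ | a <;> rcases b with _ | b
        · exact absurd rfl hab
        · show (y * φ (zA b)) ^ 2 = 1
          rw [show y * φ (zA b) = y * (φ (zA b) * y) * y⁻¹ by group, conj_pow, hyq, mul_one,
            mul_inv_cancel]
        · exact hyq a
        · show (φ (zA a) * φ (zA b)) ^ 2 = 1
          rw [← map_mul, ← map_pow, zA_pair a b (fun h => hab (congrArg some h)), map_one]))
      (by
        refine Subgroup.map_injective (Subgroup.closure (Set.range Z)).subtype_injective ?_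
        rw [MonoidHom.map_closure, ← MonoidHom.range_eq_map, Subgroup.range_subtype, ← Set.range_comp]
        rfl)
    set N := Subgroup.closure (Set.range Z)
    have haN : E ^ 3 ∈ N := by
      have : A₀ ∈ Subgroup.closure (Set.range (zA (I := ZMod p))) := by rw [zA_gen]; trivial
      have := Subgroup.mem_map_of_mem φ this
      rw [MonoidHom.map_closure, hφA] at this
      refine Subgroup.closure_mono ?_ this
      rintro _ ⟨_, ⟨q, rfl⟩, rfl⟩
      exact ⟨some q, rfl⟩
    have hyN : y ∈ N := Subgroup.subset_closure ⟨none, rfl⟩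
    have hEN : E ∈ N := by
      have h1 : E ^ (3 * p) = 1 := by rw [pow_mul]; exact ha
      have h2 : E = (E ^ 3) ^ i * y ^ j := by
        rw [hydef, ← pow_mul, ← pow_mul, ← pow_add]
        conv_lhs => rw [← pow_one E]
        rw [pow_eq_pow_mod _ h1, pow_eq_pow_mod (3 * i + p * j) h1]
        congr 1
        have hc : Nat.Coprime 3 p := (Nat.coprime_primes Nat.prime_three hpp).2 (by omega)
        refine ((Nat.modEq_and_modEq_iff_modEq_mul hc).1 ⟨?_, ?_⟩)
        · show 1 % 3 = (3 * i + p * j) % 3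
          rw [Nat.add_mod, Nat.mul_mod_right, hj3]
        · show 1 % p = (3 * i + p * j) % p
          rw [Nat.add_mod, Nat.mul_mod_right, hi3, add_zero, Nat.mod_eq_of_lt (by omega)]
      rw [h2]
      exact mul_mem (pow_mem haN _) (pow_mem hyN _)
    have htop : N = ⊤ := by
      rw [eq_top_iff]
      intro x hx
      clear hx
      obtain ⟨w, rfl⟩ := hπ x
      induction w using FreeGroup.induction_on with
      | C1 => rw [map_one]; exact one_mem _
      | of k =>
        fin_cases k
        · exact hEN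
        · exact Subgroup.subset_closure ⟨some 0, hφZ⟩
      | inv_of i hi => rw [map_inv]; exact inv_mem hi
      | mul x y hx hy => rw [map_mul]; exact mul_mem hx hy
    have := hfN
    haveI : Finite G := by
      rw [htop] at this
      exact Finite.of_equiv _ Subgroup.topEquiv.toEquiv
    refine injective_of_card_le hgen hθ ?_
    haveI : Nontrivial (Fin 2 ⊕ Option (ZMod p)) := ⟨⟨Sum.inl 0, Sum.inl 1, by simp⟩⟩
    have hT := par_card_bot (α := Fin 2 ⊕ Option (ZMod p))
    rw [htop, Subgroup.card_top] at hleN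
    rw [Fintype.card_sum, Fintype.card_fin, Fintype.card_option, ZMod.card,
      show 2 + (p + 1) = p + 1 + 2 by omega] at hT
    rw [Fintype.card_option, ZMod.card] at hleN
    show Nat.card G ≤ Nat.card (parGroup ⊥ (Fin 2 ⊕ Option (ZMod p)))
    omega

end Cfsg.Agent.H68.ShortAlt
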