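import Mathlib

/-!
Two primes in `(2k, 3k)` for large `k` (after El Bachraoui), by the binomial coefficient
`(3k).choose k`, and the primes that serve as windows for the short presentations of the
alternating and symmetric groups.
-/

set_option autoImplicit false

namespace Cfsg.Agent.H68.ShortAlt

open Finset

theorem choose_three_mul_lower : ∀ k : ℕ, 1 ≤ k → 27 ^ k ≤ 3 * k * 4 ^ k * (3 * k).choose k
  | 0, h => absurd h (by omega)
  | 1, _ => by decide
  | k + 2, _ => by
    have ih := choose_three_mul_lower (k + 1) (by omega)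
    set j := k + 1 with hj
    show 27 ^ (j + 1) ≤ 3 * (j + 1) * 4 ^ (j + 1) * (3 * (j + 1)).choose (j + 1)
    have e1 : (3 * j).choose j * (j.factorial * (2 * j).factorial) = (3 * j).factorial := by
      have h := Nat.choose_mul_factorial_mul_factorial (show j ≤ 3 * j by omega)
      rw [show 3 * j - j = 2 * j by omega] at h
      rw [← mul_assoc]; exact h
    have e2 : (3 * (j + 1)).choose (j + 1) * ((j + 1).factorial * (2 * (j + 1)).factorial) =
        (3 * (j + 1)).factorial := by
      have h := Nat.choose_mul_factorial_mul_factorial (show j + 1 ≤ 3 * (j + 1) by omega)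
      rw [show 3 * (j + 1) - (j + 1) = 2 * (j + 1) by omega] at h
      rw [← mul_assoc]; exact h
    have e3 : (3 * (j + 1)).factorial =
        (3 * j + 3) * ((3 * j + 2) * ((3 * j + 1) * (3 * j).factorial)) := by
      rw [show 3 * (j + 1) = 3 * j + 2 + 1 by ring, Nat.factorial_succ,
        show 3 * j + 2 = 3 * j + 1 + 1 by ring, Nat.factorial_succ, Nat.factorial_succ]
    have e4 : (2 * (j + 1)).factorial = (2 * j + 2) * ((2 * j + 1) * (2 * j).factorial) := by
      rw [show 2 * (j + 1) = 2 * j + 1 + 1 by ring, Nat.factorial_succ, Nat.factorial_succ]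
    rw [e3, e4, Nat.factorial_succ j, ← e1] at e2
    have step : 2 * (j + 1) * (2 * j + 1) * (3 * (j + 1)).choose (j + 1) =
        3 * (3 * j + 2) * (3 * j + 1) * (3 * j).choose j := by
      apply Nat.eq_of_mul_eq_mul_right (Nat.mul_pos (Nat.succ_pos j)
        (Nat.mul_pos (Nat.factorial_pos j) (Nat.factorial_pos (2 * j))))
      linarith [e2]
    refine Nat.le_of_mul_le_mul_left ?_ (show 0 < 2 * j * (2 * j + 1) by positivity)
    have h1 : 27 ^ (j + 1) * (2 * j * (2 * j + 1)) ≤
        3 * j * 4 ^ j * (3 * j).choose j * (27 * (2 * j * (2 * j + 1))) := by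
      rw [pow_succ, mul_assoc]; exact Nat.mul_le_mul_right _ ih
    have h2 : 27 * (2 * j * (2 * j + 1)) ≤ 4 * (3 * (3 * j + 2) * (3 * j + 1)) := by nlinarith
    calc 2 * j * (2 * j + 1) * 27 ^ (j + 1)
        ≤ 3 * j * 4 ^ j * (3 * j).choose j * (27 * (2 * j * (2 * j + 1))) := by linarith [h1]
      _ ≤ 3 * j * 4 ^ j * (3 * j).choose j * (4 * (3 * (3 * j + 2) * (3 * j + 1))) :=
          Nat.mul_le_mul_left _ h2
      _ = 3 * j * 4 ^ (j + 1) * (3 * (3 * j + 2) * (3 * j + 1) * (3 * j).choose j) := by ring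
      _ = _ := by rw [← step]; ring

theorem choose_half_upper (k : ℕ) : (3 * k / 2).choose k * 2 ^ k ≤ 3 ^ (3 * k / 2) := by
  have h := add_pow (2 : ℕ) 1 (3 * k / 2)
  simp only [one_pow, mul_one] at h
  rw [show (3 : ℕ) = 2 + 1 from rfl]
  simp only [Nat.cast_id] at h
  rw [h, mul_comm]
  exact Finset.single_le_sum (f := fun m => 2 ^ m * (3 * k / 2).choose m) (fun i _ => Nat.zero_le _)
    (Finset.mem_range.2 (by omega))

theorem card_small_primes (r : ℕ) :
    ((Finset.range (r + 1)).filter Nat.Prime).card ≤ r / 2 + 1 := by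
  refine le_trans (Finset.card_le_card_of_injOn (t := Finset.range (r / 2 + 1)) (fun p => if p = 2 then 0 else p / 2)
    ?_ ?_) (by simp)
  · intro p hp
    simp only [Finset.coe_filter, Finset.mem_range, Set.mem_setOf_eq] at hp
    simp only [Finset.coe_range, Set.mem_Iio]
    split_ifs <;> omega
  · intro p hp q hq h
    simp only [Finset.coe_filter, Finset.mem_range, Set.mem_setOf_eq] at hp hq
    have a := hp.2.two_le
    have b := hq.2.two_le
    simp only at h
    rcases hp.2.eq_two_or_odd with a' | a' <;> rcases hq.2.eq_two_or_odd with b' | b' <;>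
      split_ifs at h <;> omega

theorem factorization_choose_small {p N k : ℕ} (hp : p.Prime) (hN : N < p ^ 2) (hk : k ≤ N) :
    (N.choose k).factorization p = if p ≤ k % p + (N - k) % p then 1 else 0 := by
  rw [Nat.factorization_choose hp hk (b := 2), show Finset.Ico 1 2 = {1} from rfl,
    Finset.filter_singleton]
  · simp only [pow_one]
    split_ifs <;> simp
  · rcases eq_or_ne N 0 with rfl | h0
    · simp
    · exact Nat.log_lt_of_lt_pow h0 hN

theorem choose_three_upper (k : ℕ) (hk : 1 ≤ k)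
    (h : ((Finset.range (3 * k + 1)).filter fun p => p.Prime ∧ 2 * k < p).card ≤ 1) :
    (3 * k).choose k ≤ (3 * k) ^ (1 + (Nat.sqrt (3 * k) / 2 + 1)) * 4 ^ (3 * k / 5) *
      (3 * k / 2).choose k := by
  classical
  set M := 3 * k / 2 with hM
  let f : ℕ → ℕ := fun p => p ^ ((3 * k).choose k).factorization p
  let g : ℕ → ℕ := fun p => p ^ (M.choose k).factorization p
  have hf : ∀ p, f p ≤ 3 * k := fun p => Nat.pow_factorization_choose_le (by omega)
  have hg : ∀ p, 1 ≤ g p := fun p => by
    rcases eq_or_ne p 0 with rfl | h0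
    · simp [g]
    · exact Nat.one_le_pow _ _ (by omega)
  have key : ∀ p ∈ Finset.range (3 * k + 1), f p ≤
      ((if p.Prime ∧ 2 * k < p then 3 * k else 1) *
        (if p.Prime ∧ p ≤ Nat.sqrt (3 * k) then 3 * k else 1)) *
        (if p.Prime ∧ p ≤ 3 * k / 5 then p else 1) * g p := by
    intro p _
    by_cases hp : p.Prime
    · have hp1 := hp.one_lt
      have a1 : 1 ≤ (if p.Prime ∧ 2 * k < p then 3 * k else 1) := by split_ifs <;> omega
      have a2 : 1 ≤ (if p.Prime ∧ p ≤ Nat.sqrt (3 * k) then 3 * k else 1) := by split_ifs <;> omega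
      have a3 : 1 ≤ (if p.Prime ∧ p ≤ 3 * k / 5 then p else 1) := by split_ifs <;> omega
      have a4 := hg p
      by_cases h1 : 2 * k < p
      · calc f p ≤ 3 * k := hf p
          _ = (if p.Prime ∧ 2 * k < p then 3 * k else 1) * 1 * 1 * 1 := by rw [if_pos ⟨hp, h1⟩]; ring
          _ ≤ _ := by gcongr
      by_cases h2 : p ≤ Nat.sqrt (3 * k)
      · calc f p ≤ 3 * k := hf p
          _ = 1 * (if p.Prime ∧ p ≤ Nat.sqrt (3 * k) then 3 * k else 1) * 1 * 1 := by
              rw [if_pos ⟨hp, h2⟩]; ring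
          _ ≤ _ := by gcongr
      have hsq : 3 * k < p ^ 2 := by
        have := Nat.sqrt_lt'.1 (not_le.1 h2); exact this
      by_cases h3 : p ≤ 3 * k / 5
      · calc f p ≤ p ^ 1 := Nat.pow_le_pow_right hp.pos (Nat.factorization_choose_le_one hsq)
          _ = 1 * 1 * (if p.Prime ∧ p ≤ 3 * k / 5 then p else 1) * 1 := by
              rw [if_pos ⟨hp, h3⟩]; ring
          _ ≤ _ := by gcongr
      calc f p ≤ g p := ?_
        _ = 1 * 1 * 1 * g p := by ring
        _ ≤ _ := by gcongr
      refine Nat.pow_le_pow_right hp.pos ?_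
      rw [factorization_choose_small hp hsq (by omega)]
      split_ifs with hc
      swap; · exact Nat.zero_le _
      rw [factorization_choose_small hp (lt_of_le_of_lt (by omega) hsq) (by omega), if_pos]
      rw [show 3 * k - k = 2 * k by omega] at hc
      by_cases hpk : k < p
      · rw [Nat.mod_eq_of_lt hpk] at hc ⊢
        rw [Nat.mod_eq_of_lt (show M - k < p by omega)]
        rcases lt_or_ge (2 * k) p with h4 | h4
        · omega
        · rw [Nat.mod_eq_sub_mod h4, Nat.mod_eq_of_lt (by omega)] at hc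
          omega
      · push Not at hpk
        have h5 : 3 * k < 5 * p := by omega
        rw [Nat.mod_eq_sub_mod hpk, Nat.mod_eq_of_lt (show k - p < p by omega)] at hc ⊢
        rw [Nat.mod_eq_of_lt (show M - k < p by omega)]
        rcases lt_or_ge (2 * k) (3 * p) with h4 | h4
        · rw [Nat.mod_eq_sub_mod (show p ≤ 2 * k by omega),
            Nat.mod_eq_sub_mod (show p ≤ 2 * k - p by omega), Nat.mod_eq_of_lt (by omega)] at hc
          omega
        · rw [Nat.mod_eq_sub_mod (show p ≤ 2 * k by omega),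
            Nat.mod_eq_sub_mod (show p ≤ 2 * k - p by omega),
            Nat.mod_eq_sub_mod (show p ≤ 2 * k - p - p by omega), Nat.mod_eq_of_lt (by omega)] at hc
          omega
    · simp only [f, g, Nat.factorization_eq_zero_of_not_prime _ hp, pow_zero]
      simp [hp]
  have hprod : ∏ p ∈ Finset.range (3 * k + 1), f p = (3 * k).choose k :=
    Nat.prod_pow_factorization_choose _ _ (by omega)
  have h1 : ∏ p ∈ Finset.range (3 * k + 1), (if p.Prime ∧ 2 * k < p then 3 * k else 1)
      ≤ (3 * k) ^ 1 := by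
    rw [← Finset.prod_filter, Finset.prod_const]
    exact Nat.pow_le_pow_right (by omega) h
  have h2 : ∏ p ∈ Finset.range (3 * k + 1), (if p.Prime ∧ p ≤ Nat.sqrt (3 * k) then 3 * k else 1)
      ≤ (3 * k) ^ (Nat.sqrt (3 * k) / 2 + 1) := by
    rw [← Finset.prod_filter, Finset.prod_const]
    refine Nat.pow_le_pow_right (by omega) (le_trans (Finset.card_le_card ?_)
      (card_small_primes _))
    intro p hp
    simp only [Finset.mem_filter, Finset.mem_range] at hp ⊢
    exact ⟨by omega, hp.2.1⟩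
  have h3 : ∏ p ∈ Finset.range (3 * k + 1), (if p.Prime ∧ p ≤ 3 * k / 5 then p else 1)
      ≤ 4 ^ (3 * k / 5) := by
    rw [← Finset.prod_filter]
    refine le_trans (le_of_eq ?_) (primorial_le_four_pow (3 * k / 5))
    unfold primorial
    refine Finset.prod_congr ?_ fun _ _ => rfl
    ext p
    simp only [Finset.mem_filter, Finset.mem_range]
    constructor
    · rintro ⟨-, hp, hle⟩; exact ⟨by omega, hp⟩
    · rintro ⟨hle, hp⟩; exact ⟨by omega, hp, by omega⟩
  have h4 : ∏ p ∈ Finset.range (3 * k + 1), g p ≤ M.choose k := by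
    rw [← Nat.prod_pow_factorization_choose M k (by omega)]
    refine le_of_eq (Finset.prod_subset (Finset.range_mono (by omega)) fun p _ hp => ?_).symm
    have hp := Nat.le_of_not_lt (fun h => hp (Finset.mem_range.2 h))
    show p ^ (M.choose k).factorization p = 1
    rw [Nat.factorization_choose_eq_zero_of_lt (show M < p by omega), pow_zero]
  calc (3 * k).choose k = ∏ p ∈ Finset.range (3 * k + 1), f p := hprod.symm
    _ ≤ ∏ p ∈ Finset.range (3 * k + 1), (((if p.Prime ∧ 2 * k < p then 3 * k else 1) *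
        (if p.Prime ∧ p ≤ Nat.sqrt (3 * k) then 3 * k else 1)) *
        (if p.Prime ∧ p ≤ 3 * k / 5 then p else 1) * g p) :=
        Finset.prod_le_prod' key
    _ ≤ _ := by
        rw [Finset.prod_mul_distrib, Finset.prod_mul_distrib, Finset.prod_mul_distrib, pow_add]
        exact Nat.mul_le_mul (Nat.mul_le_mul (Nat.mul_le_mul h1 h2) h3) h4

theorem growth : ∀ r : ℕ, 160 ≤ r → (r + 1) ^ 32 * 4194304 ^ r < 14348907 ^ r := by
  intro r hr
  induction r, hr using Nat.le_induction with
  | base => norm_num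
  | succ r hr ih =>
    have h1 : ((r + 1 + 1) * 161) ^ 32 ≤ ((r + 1) * 162) ^ 32 := Nat.pow_le_pow_left (by omega) 32
    have h2 : 162 ^ 32 * 4194304 ≤ 14348907 * 161 ^ 32 := by norm_num
    apply Nat.lt_of_mul_lt_mul_left (a := 161 ^ 32)
    calc 161 ^ 32 * ((r + 1 + 1) ^ 32 * 4194304 ^ (r + 1))
        = ((r + 1 + 1) * 161) ^ 32 * (4194304 ^ r * 4194304) := by rw [mul_pow, pow_succ]; ring
      _ ≤ ((r + 1) * 162) ^ 32 * (4194304 ^ r * 4194304) := Nat.mul_le_mul_right _ h1
      _ = (r + 1) ^ 32 * 4194304 ^ r * (162 ^ 32 * 4194304) := by rw [mul_pow]; ring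
      _ < 14348907 ^ r * (162 ^ 32 * 4194304) := Nat.mul_lt_mul_of_pos_right ih (by norm_num)
      _ ≤ 14348907 ^ r * (14348907 * 161 ^ 32) := Nat.mul_le_mul_left _ h2
      _ = 161 ^ 32 * 14348907 ^ (r + 1) := by rw [pow_succ]; ring

theorem two_le_card_primes (k : ℕ) (hk : 8600 ≤ k) :
    2 ≤ ((Finset.range (3 * k + 1)).filter fun p => p.Prime ∧ 2 * k < p).card := by
  by_contra hc
  have hC := choose_three_upper k (by omega) (by omega)
  have hL := choose_three_mul_lower k (by omega)
  have hM := choose_half_upper k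
  set r := Nat.sqrt (3 * k) with hr
  have hr1 : r ^ 2 ≤ 3 * k := Nat.sqrt_le' _
  have hr2 : 3 * k < (r + 1) ^ 2 := Nat.lt_succ_sqrt' _
  have hr160 : 160 ≤ r := Nat.le_sqrt.2 (by omega)
  set s := 1 + (r / 2 + 1) with hs
  set A := (3 * k / 2).choose k
  have h1 : 27 ^ k * 2 ^ k ≤ (3 * k) ^ (s + 1) * 4 ^ (k + 3 * k / 5) * 3 ^ (3 * k / 2) := by
    calc 27 ^ k * 2 ^ k ≤ 3 * k * 4 ^ k * ((3 * k) ^ s * 4 ^ (3 * k / 5) * A) * 2 ^ k :=
          Nat.mul_le_mul_right _ (hL.trans (Nat.mul_le_mul_left _ hC))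
      _ = (3 * k) ^ (s + 1) * 4 ^ (k + 3 * k / 5) * (A * 2 ^ k) := by
          rw [pow_succ, pow_add]; ring
      _ ≤ _ := Nat.mul_le_mul_left _ hM
  have h2 : 14348907 ^ k * (3 ^ (15 * k) * 2 ^ (10 * k)) ≤
      ((r + 1) ^ 2) ^ ((s + 1) * 10) * (4194304 ^ k * (3 ^ (15 * k) * 2 ^ (10 * k))) := by
    have h := Nat.pow_le_pow_left h1 10
    have e1 : (27 ^ k * 2 ^ k) ^ 10 = 14348907 ^ k * (3 ^ (15 * k) * 2 ^ (10 * k)) := by
      rw [mul_pow, ← pow_mul, ← pow_mul, show (27 : ℕ) = 3 ^ 3 by norm_num,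
        show (14348907 : ℕ) = 3 ^ 15 by norm_num, ← pow_mul, ← pow_mul,
        show 3 * (k * 10) = 15 * k + 15 * k by ring, pow_add, mul_comm k 10]
      ring
    rw [e1, mul_pow, mul_pow, ← pow_mul, ← pow_mul, ← pow_mul] at h
    refine h.trans ?_
    have a1 : (3 * k) ^ ((s + 1) * 10) ≤ ((r + 1) ^ 2) ^ ((s + 1) * 10) :=
      Nat.pow_le_pow_left hr2.le _
    have a2 : 4 ^ ((k + 3 * k / 5) * 10) ≤ 4194304 ^ k * 2 ^ (10 * k) := by
      rw [show (4194304 : ℕ) = 2 ^ 22 by norm_num, ← pow_mul, ← pow_add,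
        show (4 : ℕ) = 2 ^ 2 by norm_num, ← pow_mul]
      exact Nat.pow_le_pow_right (by norm_num) (by omega)
    have a3 : 3 ^ (3 * k / 2 * 10) ≤ 3 ^ (15 * k) := Nat.pow_le_pow_right (by norm_num) (by omega)
    calc (3 * k) ^ ((s + 1) * 10) * 4 ^ ((k + 3 * k / 5) * 10) * 3 ^ (3 * k / 2 * 10)
        ≤ ((r + 1) ^ 2) ^ ((s + 1) * 10) * (4194304 ^ k * 2 ^ (10 * k)) * 3 ^ (15 * k) :=
          Nat.mul_le_mul (Nat.mul_le_mul a1 a2) a3
      _ = _ := by ring
  have h3 : 14348907 ^ k ≤ ((r + 1) ^ 2) ^ ((s + 1) * 10) * 4194304 ^ k := by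
    refine Nat.le_of_mul_le_mul_right ?_ (show 0 < 3 ^ (15 * k) * 2 ^ (10 * k) by positivity)
    rw [mul_assoc _ (4194304 ^ k)]; exact h2
  -- cube
  have h4 := Nat.pow_le_pow_left h3 3
  rw [mul_pow, ← pow_mul, ← pow_mul, ← pow_mul, ← pow_mul] at h4
  have h5 := Nat.pow_lt_pow_left (growth r hr160) (n := r) (by omega)
  rw [mul_pow, ← pow_mul, ← pow_mul, ← pow_mul] at h5
  have e : (r + 1) ^ (2 * ((s + 1) * 10) * 3) ≤ (r + 1) ^ (32 * r) :=
    Nat.pow_le_pow_right (by omega) (by omega)
  obtain ⟨t, ht⟩ : ∃ t, k * 3 = r * r + t := ⟨k * 3 - r * r, by rw [sq] at hr1; omega⟩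
  rw [ht, pow_add, pow_add] at h4
  have h6 : 4194304 ^ t ≤ 14348907 ^ t := Nat.pow_le_pow_left (by norm_num) _
  have h7 : 14348907 ^ (r * r) * 14348907 ^ t <
      14348907 ^ (r * r) * 14348907 ^ t := by
    calc 14348907 ^ (r * r) * 14348907 ^ t
        ≤ (r + 1) ^ (2 * ((s + 1) * 10) * 3) * (4194304 ^ (r * r) * 4194304 ^ t) := by
          simpa [mul_assoc] using h4
      _ ≤ (r + 1) ^ (32 * r) * 4194304 ^ (r * r) * 14348907 ^ t := by
          rw [← mul_assoc]; exact Nat.mul_le_mul (Nat.mul_le_mul_right _ e) h6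
      _ < _ := Nat.mul_lt_mul_of_pos_right h5 (by positivity)
  exact lt_irrefl _ h7

theorem window_of_prime {n p : ℕ} (hp : p.Prime) (h1 : p + 4 ≤ n) (h2 : 2 * n ≤ 3 * p + 3)
    (h5 : 5 ≤ p) :
    ∃ p : ℕ, p.Prime ∧ 5 ≤ p ∧ (n = p + 2 ∨ n = p + 3 ∨ (p + 4 ≤ n ∧ 2 * n ≤ 3 * p + 3)) :=
  ⟨p, hp, h5, Or.inr (Or.inr ⟨h1, h2⟩)⟩

/-- The window primes. -/
theorem exists_window_prime (n : ℕ) (hn : 10 ≤ n) :
    ∃ p : ℕ, p.Prime ∧ 5 ≤ p ∧ (n = p + 2 ∨ n = p + 3 ∨ (p + 4 ≤ n ∧ 2 * n ≤ 3 * p + 3)) := by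
  rcases lt_or_ge n 25801 with hlt | hge
  · by_cases c1 : n = 10
    · exact ⟨7, by norm_num, by norm_num, by omega⟩
    by_cases c2 : n = 13 ∨ n = 14
    · exact ⟨11, by norm_num, by norm_num, by omega⟩
    by_cases b1 : n ≤ 12
    · exact window_of_prime (p := 7) (by norm_num) (by omega) (by omega) (by norm_num)
    by_cases b2 : n ≤ 18
    · exact window_of_prime (p := 11) (by norm_num) (by omega) (by omega) (by norm_num)
    by_cases b3 : n ≤ 21
    · exact window_of_prime (p := 13) (by norm_num) (by omega) (by omega) (by norm_num)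
    by_cases b4 : n ≤ 27
    · exact window_of_prime (p := 17) (by norm_num) (by omega) (by omega) (by norm_num)
    by_cases b5 : n ≤ 36
    · exact window_of_prime (p := 23) (by norm_num) (by omega) (by omega) (by norm_num)
    by_cases b6 : n ≤ 48
    · exact window_of_prime (p := 31) (by norm_num) (by omega) (by omega) (by norm_num)
    by_cases b7 : n ≤ 66
    · exact window_of_prime (p := 43) (by norm_num) (by omega) (by omega) (by norm_num)
    by_cases b8 : n ≤ 93
    · exact window_of_prime (p := 61) (by norm_num) (by omega) (by omega) (by norm_num)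
    by_cases b9 : n ≤ 135
    · exact window_of_prime (p := 89) (by norm_num) (by omega) (by omega) (by norm_num)
    by_cases b10 : n ≤ 198
    · exact window_of_prime (p := 131) (by norm_num) (by omega) (by omega) (by norm_num)
    by_cases b11 : n ≤ 291
    · exact window_of_prime (p := 193) (by norm_num) (by omega) (by omega) (by norm_num)
    by_cases b12 : n ≤ 426
    · exact window_of_prime (p := 283) (by norm_num) (by omega) (by omega) (by norm_num)
    by_cases b13 : n ≤ 633
    · exact window_of_prime (p := 421) (by norm_num) (by omega) (by omega) (by norm_num)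
    by_cases b14 : n ≤ 930
    · exact window_of_prime (p := 619) (by norm_num) (by omega) (by omega) (by norm_num)
    by_cases b15 : n ≤ 1380
    · exact window_of_prime (p := 919) (by norm_num) (by omega) (by omega) (by norm_num)
    by_cases b16 : n ≤ 2061
    · exact window_of_prime (p := 1373) (by norm_num) (by omega) (by omega) (by norm_num)
    by_cases b17 : n ≤ 3081
    · exact window_of_prime (p := 2053) (by norm_num) (by omega) (by omega) (by norm_num)
    by_cases b18 : n ≤ 4602
    · exact window_of_prime (p := 3067) (by norm_num) (by omega) (by omega) (by norm_num)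
    by_cases b19 : n ≤ 6897
    · exact window_of_prime (p := 4597) (by norm_num) (by omega) (by omega) (by norm_num)
    by_cases b20 : n ≤ 10326
    · exact window_of_prime (p := 6883) (by norm_num) (by omega) (by omega) (by norm_num)
    by_cases b21 : n ≤ 15483
    · exact window_of_prime (p := 10321) (by norm_num) (by omega) (by omega) (by norm_num)
    by_cases b22 : n ≤ 23211
    · exact window_of_prime (p := 15473) (by norm_num) (by omega) (by omega) (by norm_num)
    exact window_of_prime (p := 23203) (by norm_num) (by omega) (by omega) (by norm_num)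
  · set k := (n - 1) / 3 with hk
    have h := two_le_card_primes k (by omega)
    obtain ⟨a, ha, b, hb, hab⟩ := Finset.one_lt_card.1 h
    simp only [Finset.mem_filter, Finset.mem_range] at ha hb
    have ha3 : a ≠ 3 * k := fun e => by
      have := (Nat.prime_dvd_prime_iff_eq Nat.prime_three ha.2.1).1 ⟨k, e⟩; omega
    have hb3 : b ≠ 3 * k := fun e => by
      have := (Nat.prime_dvd_prime_iff_eq Nat.prime_three hb.2.1).1 ⟨k, e⟩; omega
    obtain ⟨i, hi⟩ := ha.2.1.odd_of_ne_two (by omega)
    obtain ⟨j, hj⟩ := hb.2.1.odd_of_ne_two (by omega)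
    rcases lt_or_gt_of_ne hab with h' | h'
    · exact window_of_prime ha.2.1 (by omega) (by omega) (by omega)
    · exact window_of_prime hb.2.1 (by omega) (by omega) (by omega)

end Cfsg.Agent.H68.ShortAlt
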