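import Cfsg.Agent.H68.ShortAlt.Basic
import Cfsg.Agent.H68.ShortAlt.Window
import Cfsg.Agent.H99.HasPres

/-!
Short presentations in the small degrees: a three-cycle and an element permuting a Carmichael
family cyclically.
-/

set_option autoImplicit false
set_option linter.unusedSectionVars false

namespace Cfsg.Agent.H68.ShortAlt

open Equiv Equiv.Perm Fin.NatCast
open Cfsg.Agent.H99.BoundedPres

theorem hasPres_cyclic {T : Type} [Group T] [Finite T] (t : T) (ht : ∀ x, x ∈ Subgroup.zpowers t) :
    HasPres T 2 2 := by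
  have hgen : Subgroup.closure (Set.range ![t, 1]) = ⊤ := by
    rw [eq_top_iff]
    intro x _
    exact (Subgroup.zpowers_le (H := Subgroup.closure (Set.range ![t, 1]))).2
      (Subgroup.subset_closure ⟨0, rfl⟩) (ht x)
  refine HasPres.of_list [(FreeGroup.of 0 ^ orderOf t, 1), (FreeGroup.of 1, 1)] le_rfl ![t, 1] hgen
    ?_ ?_
  · simp [pow_orderOf_eq_one]
  · intro G _ π hπ hrel θ hθ
    simp only [List.forall_mem_cons, List.not_mem_nil, IsEmpty.forall_iff, implies_true, and_true,
      map_pow, map_one] at hrel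
    obtain ⟨h0, h1⟩ := hrel
    set a := π (FreeGroup.of 0)
    have htop : Subgroup.zpowers a = ⊤ := by
      rw [eq_top_iff]
      intro x hx
      clear hx
      obtain ⟨w, rfl⟩ := hπ x
      induction w using FreeGroup.induction_on with
      | C1 => rw [map_one]; exact one_mem _
      | of i =>
        fin_cases i
        · exact Subgroup.mem_zpowers a
        · show π (FreeGroup.of 1) ∈ _
          rw [h1]; exact one_mem _
      | inv_of i hi => rw [map_inv]; exact inv_mem hi
      | mul x y hx hy => rw [map_mul]; exact mul_mem hx hy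
    have hfin : IsOfFinOrder a := isOfFinOrder_iff_pow_eq_one.2 ⟨_, orderOf_pos t, h0⟩
    haveI : Finite G := by
      have : Finite (Subgroup.zpowers a) := hfin.finite_zpowers.to_subtype
      rw [htop] at this
      exact Finite.of_equiv _ Subgroup.topEquiv.toEquiv
    refine injective_of_card_le hgen hθ ?_
    calc Nat.card G = Nat.card (Subgroup.zpowers a) := by rw [htop, Subgroup.card_top]
      _ = orderOf a := Nat.card_zpowers a
      _ ≤ orderOf t := Nat.le_of_dvd (orderOf_pos t) (orderOf_dvd_of_pow_eq_one h0)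
      _ = Nat.card (Subgroup.zpowers t) := (Nat.card_zpowers t).symm
      _ ≤ Nat.card T := Nat.card_le_card_of_injective _ Subtype.val_injective

/-- A three-cycle with a cyclic shift of its family. -/
theorem hasPres_small_par {U : Subgroup ℤˣ} (hU : U = ⊥ ∨ U = ⊤) (m : ℕ) :
    HasPres (parGroup U (Fin 2 ⊕ Fin (m + 1))) 2 (3 + (m + 1) / 2) := by
  classical
  set rot : Perm (Fin (m + 1)) := finRotate (m + 1)
  obtain ⟨δ, q, hpar, hq, hsq⟩ : ∃ (δ : ℤˣ) (q : ℕ), δ * Perm.sign rot ∈ U ∧
      ((U = ⊥ ∧ q = 1) ∨ (U = ⊤ ∧ q = 2)) ∧ (δ * Perm.sign rot) ^ q = 1 ∧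
        (U = ⊤ → δ * Perm.sign rot = -1) := by
    rcases hU with rfl | rfl
    · exact ⟨Perm.sign rot, 1, by rw [Int.units_mul_self]; exact Subgroup.one_mem _,
        Or.inl ⟨rfl, rfl⟩, by rw [Int.units_mul_self, one_pow], fun h => by
          have h' : (-1 : ℤˣ) ∈ (⊥ : Subgroup ℤˣ) := by rw [h]; exact Subgroup.mem_top _
          exact absurd (Subgroup.mem_bot.1 h') (by decide)⟩
    · refine ⟨-Perm.sign rot, 2, Subgroup.mem_top _, Or.inr ⟨rfl, rfl⟩, Int.units_sq _, fun _ => ?_⟩
      rw [neg_mul, Int.units_mul_self]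
  set C₀ : Perm (Fin 2 ⊕ Fin (m + 1)) := Perm.sumCongr (two δ) rot with hC₀
  have hsC : Perm.sign C₀ = δ * Perm.sign rot := by rw [hC₀, Perm.sign_sumCongr, sign_two]
  have hz0 : Perm.sign (zPerm (0 : Fin (m + 1))) = 1 := mem_alternatingGroup.1 (zPerm_mem 0)
  set f : Fin 2 → parGroup U (Fin 2 ⊕ Fin (m + 1)) :=
    ![⟨zPerm 0, show Perm.sign (zPerm (0 : Fin (m + 1))) ∈ U by rw [hz0]; exact U.one_mem⟩,
      ⟨C₀, show Perm.sign C₀ ∈ U by rw [hsC]; exact hpar⟩] with hf
  have hstep : ∀ i : Fin (m + 1), C₀ * zPerm i * C₀⁻¹ = zPerm (rot i) ^ (δ : ℤ) := by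
    intro i
    show C₀ * cyc (Sum.inl 0) (Sum.inl 1) (Sum.inr i) * C₀⁻¹ = _
    rw [cyc_conj]
    rcases Int.units_eq_one_or δ with rfl | rfl
    · rw [Units.val_one, zpow_one]
      simp [hC₀, two, zPerm, cyc]
    · have h := sab_zPerm (rot i)
      have hs : (sab : Perm (Fin 2 ⊕ Fin (m + 1)))⁻¹ = sab := inv_eq_of_mul_eq_one_right sab_mul_self
      rw [Units.val_neg, Units.val_one, zpow_neg, zpow_one, ← h,
        show zPerm (rot i) = cyc (Sum.inl 0) (Sum.inl 1) (Sum.inr (rot i)) from rfl]
      have := cyc_conj (sab : Perm (Fin 2 ⊕ Fin (m + 1))) (Sum.inl 0) (Sum.inl 1) (Sum.inr (rot i))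
      rw [hs] at this
      rw [this]
      simp [hC₀, two, sab, swap_apply_of_ne_of_ne]
  -- the words of the family
  set z := FreeGroup.of (0 : Fin 2) with hz
  set c := FreeGroup.of (1 : Fin 2) with hc
  let zw : ℕ → FreeGroup (Fin 2) := fun k => (c ^ k * z * (c ^ k)⁻¹) ^ ((δ ^ k : ℤˣ) : ℤ)
  have hrot : ∀ k : ℕ, (rot ^ k) 0 = ((k : ℕ) : Fin (m + 1)) := by
    intro k
    induction k with
    | zero => simp
    | succ k ih => rw [pow_succ', Perm.mul_apply, ih, Nat.cast_succ]; simp [rot]
  have hCpow : ∀ k : ℕ, C₀ ^ k * zPerm 0 * (C₀ ^ k)⁻¹ =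
      zPerm ((k : ℕ) : Fin (m + 1)) ^ ((δ ^ k : ℤˣ) : ℤ) := by
    intro k
    induction k with
    | zero => simp
    | succ k ih =>
      rw [pow_succ', show C₀ * C₀ ^ k * zPerm 0 * (C₀ * C₀ ^ k)⁻¹ =
        C₀ * (C₀ ^ k * zPerm 0 * (C₀ ^ k)⁻¹) * C₀⁻¹ by group, ih, ← conj_zpow, hstep, ← zpow_mul]
      congr 2
      · rw [Nat.cast_succ]; simp [rot]
      · rw [pow_succ', Units.val_mul]
  have hzw : ∀ k : ℕ, (FreeGroup.lift f (zw k) : Perm (Fin 2 ⊕ Fin (m + 1))) =
      zPerm ((k : ℕ) : Fin (m + 1)) := by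
    intro k
    simp only [zw, map_zpow, map_mul, map_pow, map_inv, hz, hc, FreeGroup.lift_apply_of, hf]
    simp only [Matrix.cons_val_zero, Matrix.cons_val_one, SubgroupClass.coe_zpow, Subgroup.coe_mul,
      SubgroupClass.coe_pow, Subgroup.coe_inv]
    rw [hCpow, ← zpow_mul, ← Units.val_mul, Int.units_mul_self, Units.val_one, zpow_one]
  let ι : alternatingGroup (Fin 2 ⊕ Fin (m + 1)) →* parGroup U (Fin 2 ⊕ Fin (m + 1)) :=
    (alternatingGroup (Fin 2 ⊕ Fin (m + 1))).subtype.codRestrict _ fun x => by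
      show Perm.sign (x : Perm (Fin 2 ⊕ Fin (m + 1))) ∈ U
      rw [mem_alternatingGroup.1 x.2]; exact U.one_mem
  have heven : ∀ x : parGroup U (Fin 2 ⊕ Fin (m + 1)), Perm.sign (x : Perm (Fin 2 ⊕ Fin (m + 1))) = 1 →
      ∃ w, FreeGroup.lift f (FreeGroup.lift (fun i : Fin (m + 1) => zw i) w) = x := by
    intro x hx
    obtain ⟨w, hw⟩ := exists_word (zA_gen (I := Fin (m + 1))) ⟨(x : Perm (Fin 2 ⊕ Fin (m + 1))), mem_alternatingGroup.2 hx⟩
    refine ⟨w, ?_⟩
    have : (FreeGroup.lift f).comp (FreeGroup.lift fun i : Fin (m + 1) => zw i) =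
        ι.comp (FreeGroup.lift zA) := by
      refine FreeGroup.ext_hom _ _ fun i => ?_
      apply Subtype.ext
      simp only [MonoidHom.comp_apply, FreeGroup.lift_apply_of]
      rw [hzw, Fin.cast_val_eq_self]
      rfl
    rw [← MonoidHom.comp_apply, this, MonoidHom.comp_apply, hw]
    rfl
  have hgen : Subgroup.closure (Set.range f) = ⊤ := by
    rw [eq_top_iff]
    intro x _
    have key : ∀ y : parGroup U (Fin 2 ⊕ Fin (m + 1)), Perm.sign (y : Perm (Fin 2 ⊕ Fin (m + 1))) = 1 →
        y ∈ Subgroup.closure (Set.range f) := fun y hy => by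
      obtain ⟨w, hw⟩ := heven y hy
      rw [← hw, ← FreeGroup.range_lift_eq_closure]
      exact ⟨_, rfl⟩
    by_cases hx : Perm.sign (x : Perm (Fin 2 ⊕ Fin (m + 1))) = 1
    · exact key x hx
    · have hx' : Perm.sign ((x * f 1 : parGroup U (Fin 2 ⊕ Fin (m + 1))) : Perm (Fin 2 ⊕ Fin (m + 1))) = 1 := by
        have hs := (Int.units_eq_one_or _).resolve_left hx
        rw [Subgroup.coe_mul, map_mul, show (f 1 : Perm (Fin 2 ⊕ Fin (m + 1))) = C₀ from rfl, hsC, hs]
        rcases hq with ⟨hb, -⟩ | ⟨ht, -⟩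
        · have : Perm.sign (x : Perm (Fin 2 ⊕ Fin (m + 1))) ∈ U := x.2
          exact absurd (Subgroup.mem_bot.1 ((SetLike.ext_iff.1 hb _).1 this)) hx
        · rw [hsq.2 ht]; decide
      have := mul_mem (key _ hx') (inv_mem (Subgroup.subset_closure (k := Set.range f) ⟨1, rfl⟩))
      rwa [mul_inv_cancel_right] at this
  obtain ⟨wq, hwq⟩ := heven (f 1 ^ q) (by
    rw [SubgroupClass.coe_pow, map_pow, show (f 1 : Perm (Fin 2 ⊕ Fin (m + 1))) = C₀ from rfl, hsC]
    exact hsq.1)
  let rels : List (FreeGroup (Fin 2) × FreeGroup (Fin 2)) :=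
    (z ^ 3, 1) :: (c ^ (m + 1) * z * (c ^ (m + 1))⁻¹, z ^ ((δ ^ (m + 1) : ℤˣ) : ℤ)) ::
      (c ^ q, FreeGroup.lift (fun i : Fin (m + 1) => zw i) wq) ::
      (List.range ((m + 1) / 2)).map fun k => ((zw 0 * zw (k + 1)) ^ 2, 1)
  refine HasPres.of_list rels (by simp [rels]; omega) f hgen ?_ ?_
  · intro r hr
    simp only [rels, List.mem_cons, List.mem_map, List.mem_range] at hr
    rcases hr with rfl | rfl | rfl | ⟨k, hk, rfl⟩
    · apply Subtype.ext
      simp only [map_pow, map_one, hz, FreeGroup.lift_apply_of, SubgroupClass.coe_pow,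
        OneMemClass.coe_one]
      exact zPerm_cube 0
    · apply Subtype.ext
      simp only [map_mul, map_pow, map_inv, map_zpow, hz, hc, FreeGroup.lift_apply_of,
        SubgroupClass.coe_zpow, Subgroup.coe_mul, SubgroupClass.coe_pow, Subgroup.coe_inv]
      show C₀ ^ (m + 1) * zPerm 0 * (C₀ ^ (m + 1))⁻¹ = zPerm 0 ^ _
      rw [hCpow, Fin.natCast_self]
    · show FreeGroup.lift f (c ^ q) = _
      rw [hwq, map_pow, hc, FreeGroup.lift_apply_of]
    · apply Subtype.ext
      simp only [map_pow, map_mul, map_one, SubgroupClass.coe_pow, Subgroup.coe_mul,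
        OneMemClass.coe_one]
      rw [hzw, hzw]
      refine zPerm_pair _ _ ?_
      intro h
      have := congrArg Fin.val h
      rw [Fin.val_natCast, Fin.val_natCast, Nat.zero_mod, Nat.mod_eq_of_lt (by omega)] at this
      omega
  · intro G _ π hπ hrel θ hθ
    have r1 := hrel _ (List.mem_cons_self ..)
    have r2 := hrel _ (List.mem_cons_of_mem _ (List.mem_cons_self ..))
    have r3 := hrel _ (List.mem_cons_of_mem _ (List.mem_cons_of_mem _ (List.mem_cons_self ..)))
    have r4 : ∀ k, k < (m + 1) / 2 → (π (zw 0) * π (zw (k + 1))) ^ 2 = 1 := fun k hk => by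
      have := hrel ((zw 0 * zw (k + 1)) ^ 2, 1) (by
        simp only [rels, List.mem_cons, List.mem_map, List.mem_range]
        exact Or.inr (Or.inr (Or.inr ⟨k, hk, rfl⟩)))
      simpa using this
    simp only [map_pow, map_one, map_mul, map_inv, map_zpow] at r1 r2 r3
    set C := π c with hC
    let Z : ℕ → G := fun k => π (zw k)
    have hsucc : ∀ k, C * Z k * C⁻¹ = Z (k + 1) ^ (δ : ℤ) := by
      intro k
      simp only [Z, zw, map_zpow, map_mul, map_pow, map_inv, ← hC]
      rw [← conj_zpow, show C * (C ^ k * π z * (C ^ k)⁻¹) * C⁻¹ =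
        C ^ (k + 1) * π z * (C ^ (k + 1))⁻¹ by rw [pow_succ']; group, ← zpow_mul]
      congr 1
      rw [pow_succ, Units.val_mul, mul_assoc, ← Units.val_mul, Int.units_mul_self, Units.val_one,
        mul_one]
    have hper : Z (m + 1) = Z 0 := by
      simp only [Z, zw, map_zpow, map_mul, map_pow, map_inv, ← hC]
      rw [r2, ← zpow_mul, ← Units.val_mul, Int.units_mul_self, Units.val_one, zpow_one]
      simp
    have hinj : ∀ {a b : G}, a ^ (δ : ℤ) = b ^ (δ : ℤ) → a = b := fun {a b} h => by
      have := congrArg (· ^ (δ : ℤ)) h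
      simpa [← zpow_mul, ← Units.val_mul, Int.units_mul_self] using this
    have hper' : ∀ k, Z (k + (m + 1)) = Z k := by
      intro k
      induction k with
      | zero => simpa using hper
      | succ k ih =>
        apply hinj
        rw [← hsucc, show k + 1 + (m + 1) = k + (m + 1) + 1 by omega, ← hsucc, ih]
    have hshift : ∀ j a b, (Z a * Z b) ^ 2 = 1 → (Z (a + j) * Z (b + j)) ^ 2 = 1 := by
      intro j
      induction j with
      | zero => intro a b h; simpa using h
      | succ j ih =>
        intro a b h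
        have h' := ih a b h
        rw [← add_assoc, ← add_assoc]
        apply conj_zpow_sq (e := δ)
        rw [← hsucc, ← hsucc, conj_mul, conj_pow, h', mul_one, mul_inv_cancel]
    have flip : ∀ {a b : G}, (a * b) ^ 2 = 1 → (b * a) ^ 2 = 1 := fun {a b} h => by
      rw [show b * a = b * (a * b) * b⁻¹ by group, conj_pow, h, mul_one, mul_inv_cancel]
    have hbase : ∀ k, 1 ≤ k → k ≤ m → (Z 0 * Z k) ^ 2 = 1 := by
      intro k h1 h2
      by_cases h : k ≤ (m + 1) / 2
      · have := r4 (k - 1) (by omega)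
        rwa [show k - 1 + 1 = k by omega] at this
      · have h' : (Z 0 * Z (m + 1 - k)) ^ 2 = 1 := by
          have := r4 (m + 1 - k - 1) (by omega)
          rwa [show m + 1 - k - 1 + 1 = m + 1 - k by omega] at this
        have := hshift k _ _ h'
        rw [zero_add, show m + 1 - k + k = m + 1 by omega, hper] at this
        exact flip this
    obtain ⟨hfin, hle⟩ := card_le_carmichael' (P := Subgroup.closure (Set.range fun i : Fin (m + 1) => Z i))
      (fun i : Fin (m + 1) => ⟨Z i, Subgroup.subset_closure ⟨i, rfl⟩⟩)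
      (fun i => Subtype.ext (by
        show Z i ^ 3 = 1
        simp only [Z, zw, map_zpow, map_mul, map_pow, map_inv]
        rw [← zpow_natCast, ← zpow_mul, mul_comm, zpow_mul, zpow_natCast, conj_pow, r1, mul_one,
          mul_inv_cancel, one_zpow]))
      (fun i j hij => Subtype.ext (by
        show (Z i * Z j) ^ 2 = 1
        rcases lt_or_gt_of_ne (fun h => hij (Fin.ext h) : (i : ℕ) ≠ j) with h | h
        · have := hshift i _ _ (hbase (j - i : ℕ) (by omega) (by have := j.2; omega))
          rwa [zero_add, show (j : ℕ) - i + i = j by omega] at this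
        · have := hshift j _ _ (hbase (i - j : ℕ) (by omega) (by have := i.2; omega))
          rw [zero_add, show (i : ℕ) - j + j = i by omega] at this
          exact flip this))
      (by
        refine Subgroup.map_injective
          (Subgroup.closure (Set.range fun i : Fin (m + 1) => Z i)).subtype_injective ?_
        rw [MonoidHom.map_closure, ← MonoidHom.range_eq_map, Subgroup.range_subtype, ← Set.range_comp]
        rfl)
    set N := Subgroup.closure (Set.range fun i : Fin (m + 1) => Z i)
    have hzN : ∀ i ≤ m + 1, Z i ∈ N := fun i hi => by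
      rcases eq_or_lt_of_le hi with rfl | h
      · rw [hper]; exact Subgroup.subset_closure ⟨0, rfl⟩
      · exact Subgroup.subset_closure ⟨⟨i, h⟩, rfl⟩
    have hn : ∀ x ∈ N, C * x * C⁻¹ ∈ N := conj_closure _ fun i => by
      rw [hsucc]; exact zpow_mem (hzN _ i.2) _
    have hn' : ∀ x ∈ N, C⁻¹ * x * C ∈ N := by
      intro x hx
      have := conj_closure (fun i : Fin (m + 1) => Z i) (g := C⁻¹) (fun i => ?_) x hx
      · simpa using this
      · obtain ⟨j, hj, e⟩ : ∃ j ≤ m + 1, Z (j + 1) = Z i := by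
          rcases Nat.eq_zero_or_pos (i : ℕ) with h | h
          · exact ⟨m, by omega, by rw [h, hper]⟩
          · exact ⟨i - 1, by have := i.2; omega, by rw [Nat.sub_add_cancel h]⟩
        rw [← e]
        have h := hsucc j
        have e2 : Z (j + 1) = (C * Z j * C⁻¹) ^ (δ : ℤ) := by
          rw [h, ← zpow_mul, ← Units.val_mul, Int.units_mul_self, Units.val_one, zpow_one]
        rw [e2, ← conj_zpow]
        rw [inv_inv, show C⁻¹ * (C * Z j * C⁻¹) * C = Z j by group]
        exact zpow_mem (hzN _ hj) _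
    have hCq : C ^ q ∈ N := by
      rw [r3]
      show π (FreeGroup.lift (fun i : Fin (m + 1) => zw i) wq) ∈ N
      rw [← MonoidHom.comp_apply,
        show π.comp (FreeGroup.lift fun i : Fin (m + 1) => zw i) =
          FreeGroup.lift (fun i : Fin (m + 1) => Z i) from FreeGroup.ext_hom _ _ fun i => by simp [Z]]
      have : FreeGroup.lift (fun i : Fin (m + 1) => Z i) wq ∈
          (FreeGroup.lift fun i : Fin (m + 1) => Z i).range := ⟨wq, rfl⟩
      rwa [FreeGroup.range_lift_eq_closure] at this
    have htop : Subgroup.closure (↑N ∪ {C} : Set G) = ⊤ := by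
      rw [eq_top_iff]
      intro x hx
      clear hx
      obtain ⟨w, rfl⟩ := hπ x
      induction w using FreeGroup.induction_on with
      | C1 => rw [map_one]; exact one_mem _
      | of i =>
        fin_cases i
        · refine Subgroup.subset_closure (Or.inl ?_)
          have := hzN 0 (by omega)
          simp only [Z, zw] at this
          simpa [hz] using this
        · exact Subgroup.subset_closure (Or.inr rfl)
      | inv_of i hi => rw [map_inv]; exact inv_mem hi
      | mul x y hx hy => rw [map_mul]; exact mul_mem hx hy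
    haveI : Nontrivial (Fin 2 ⊕ Fin (m + 1)) := ⟨⟨Sum.inl 0, Sum.inl 1, by simp⟩⟩
    haveI := hfin
    rcases hq with ⟨hb, rfl⟩ | ⟨ht, rfl⟩
    · rw [pow_one] at hCq
      have e : Subgroup.closure (↑N ∪ {C} : Set G) = N :=
        le_antisymm ((Subgroup.closure_le _).2 (by
          rintro y (hy | rfl)
          · exact hy
          · exact hCq)) fun y hy => Subgroup.subset_closure (Or.inl hy)
      haveI : Finite G := Finite.of_injective (fun y => (⟨y, by
        rw [← e, htop]; trivial⟩ : N)) fun a b h => congrArg Subtype.val h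
      refine injective_of_card_le hgen hθ ?_
      have hb' := par_card_bot (α := Fin 2 ⊕ Fin (m + 1))
      rw [Fintype.card_sum, Fintype.card_fin, Fintype.card_fin, show 2 + (m + 1) = m + 1 + 2 by omega,
        ← hb] at hb'
      have hG : Nat.card G = Nat.card N := by rw [← e, htop, Subgroup.card_top]
      rw [Fintype.card_fin] at hle
      omega
    · rw [pow_two] at hCq
      obtain ⟨hMf, hMc⟩ := card_closure_insert N C hn hn' hCq
      haveI : Finite G := by
        rw [htop] at hMf
        exact Finite.of_equiv _ Subgroup.topEquiv.toEquiv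
      refine injective_of_card_le hgen hθ ?_
      rw [htop, Subgroup.card_top] at hMc
      subst ht
      rw [par_card_top, Fintype.card_sum, Fintype.card_fin, Fintype.card_fin,
        show 2 + (m + 1) = m + 1 + 2 by omega]
      rw [Fintype.card_fin] at hle
      omega

end Cfsg.Agent.H68.ShortAlt
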