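import Cfsg.Agent.H68.ShortAlt.Basic
import Cfsg.Agent.H68.ShortAlt.Window

/-!
The two windows inside the symmetric group of `Fin 2 ⊕ ZMod p`, with the involution used for
gluing.
-/

set_option autoImplicit false
set_option linter.unusedSectionVars false

namespace Cfsg.Agent.H68.ShortAlt

open Equiv Equiv.Perm
open Cfsg.Agent.H99.BoundedPres

variable {p : ℕ} [Fact p.Prime]

/-- The translation. -/
def addP (p : ℕ) : Perm (ZMod p) := Equiv.addRight 1

/-- The multiplication by a unit. -/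
def mulP (r : (ZMod p)ˣ) : Perm (ZMod p) := Units.mulLeft r

theorem mulP_pow (r : (ZMod p)ˣ) (n : ℕ) (i : ZMod p) :
    (mulP r ^ n) i = ((r ^ n : (ZMod p)ˣ) : ZMod p) * i := by
  induction n generalizing i with
  | zero => simp
  | succ n ih =>
    rw [pow_succ, Perm.mul_apply, ih, pow_succ, Units.val_mul, mul_assoc]
    rfl

theorem addP_pow (n : ℕ) (i : ZMod p) : (addP p ^ n) i = i + n := addRight_pow p n i

theorem addP_pow_p : addP p ^ p = 1 := Equiv.ext fun i => by
  rw [addP_pow, ZMod.natCast_self, add_zero, Perm.one_apply]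

theorem agl_perm {r : (ZMod p)ˣ} (hr1 : (r : ZMod p) ≠ 1) :
    mulP r ^ (p - 1) = 1 ∧
      mulP r * addP p ^ sExp r * (mulP r)⁻¹ = addP p ^ (sExp r + 1) := by
  constructor
  · refine Equiv.ext fun i => ?_
    rw [mulP_pow, ZMod.units_pow_card_sub_one_eq_one, Units.val_one, one_mul, Perm.one_apply]
  · refine Equiv.ext fun i => ?_
    obtain ⟨j, rfl⟩ := (mulP r).surjective i
    rw [Perm.mul_apply, Perm.mul_apply, Perm.inv_def, Equiv.symm_apply_apply, addP_pow, addP_pow]
    show (r : ZMod p) * (j + (sExp r : ZMod p)) = (r : ZMod p) * j + ((sExp r + 1 : ℕ) : ZMod p)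
    rw [Nat.cast_succ, mul_add, mul_comm (r : ZMod p) (sExp r : ZMod p), (sExp_spec hr1).1]

theorem generator_facts (hp : 5 ≤ p) {r : (ZMod p)ˣ} (hr : ∀ x, x ∈ Subgroup.zpowers r) :
    (r : ZMod p) ≠ 1 ∧ Perm.sign (mulP r) = -1 ∧
      ((r ^ ((p - 1) / 2) : (ZMod p)ˣ) : ZMod p) = -1 := by
  classical
  have hord : orderOf r = p - 1 := by
    rw [orderOf_eq_card_of_forall_mem_zpowers hr, Nat.card_eq_fintype_card,
      ZMod.card_units_eq_totient, Nat.totient_prime Fact.out]
  have hr1 : (r : ZMod p) ≠ 1 := by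
    intro h
    have : r = 1 := Units.ext h
    rw [this, orderOf_one] at hord
    omega
  refine ⟨hr1, ?_, ?_⟩
  · have hsupp : (mulP r).support = Finset.univ.erase 0 := by
      ext i
      simp only [Perm.mem_support, Finset.mem_erase, Finset.mem_univ, and_true]
      show (r : ZMod p) * i ≠ i ↔ i ≠ 0
      constructor
      · rintro h rfl; exact h (mul_zero _)
      · intro h e
        exact hr1 (mul_right_cancel₀ h (e.trans (one_mul i).symm))
    have hc : (mulP r).IsCycle := by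
      refine ⟨1, ?_, fun y hy => ?_⟩
      · show (r : ZMod p) * 1 ≠ 1
        rwa [mul_one]
      · have hy0 : y ≠ 0 := fun h => hy (by subst h; exact mul_zero _)
        obtain ⟨n, hn⟩ := mem_powers_iff_mem_zpowers.mpr (hr (Units.mk0 y hy0))
        refine ⟨(n : ℤ), ?_⟩
        rw [zpow_natCast, mulP_pow, mul_one]
        exact congrArg Units.val hn
    rw [hc.sign, hsupp, Finset.card_erase_of_mem (Finset.mem_univ _), Finset.card_univ, ZMod.card]
    have : Even (p - 1) := by
      obtain ⟨i, hi⟩ := (Fact.out : p.Prime).odd_of_ne_two (by omega)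
      exact ⟨i, by omega⟩
    rw [this.neg_one_pow]
  · set k := (p - 1) / 2
    obtain ⟨i, hi⟩ := (Fact.out : p.Prime).odd_of_ne_two (by omega)
    have hk : k + k = p - 1 := by omega
    have h2 : ((r ^ k : (ZMod p)ˣ) : ZMod p) * ((r ^ k : (ZMod p)ˣ) : ZMod p) = 1 := by
      rw [← Units.val_mul, ← pow_add, hk, ZMod.units_pow_card_sub_one_eq_one, Units.val_one]
    rcases mul_self_eq_one_iff.1 h2 with h | h
    · have h' : r ^ k = 1 := Units.ext h
      have := orderOf_dvd_of_pow_eq_one h'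
      rw [hord] at this
      have := Nat.le_of_dvd (by omega) this
      omega
    · exact h

theorem zPerm_eq_cyc (i : ZMod p) :
    zPerm i = cyc (Sum.inl 0 : Fin 2 ⊕ ZMod p) (Sum.inl 1) (Sum.inr i) := rfl

theorem cast_ne {a b : ℕ} (ha : a < p) (hb : b < p) (h : a ≠ b) : (a : ZMod p) ≠ (b : ZMod p) := by
  intro e
  have := congrArg ZMod.val e
  rw [ZMod.val_cast_of_lt ha, ZMod.val_cast_of_lt hb] at this
  exact h this

theorem cast_add_ne {a b : ℕ} (h0 : 0 < a + b) (h : a + b < p) : -(a : ZMod p) ≠ (b : ZMod p) := by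
  intro e
  have e' : ((a + b : ℕ) : ZMod p) = ((0 : ℕ) : ZMod p) := by
    rw [Nat.cast_add, Nat.cast_zero, ← e, add_neg_cancel]
  exact cast_ne h (by omega) (by omega) e'

/-- What the gluing needs from an involution of the window. -/
def GoodInvolution (U : Subgroup ℤˣ) (X : Perm (Fin 2 ⊕ ZMod p)) : Prop :=
  X * X = 1 ∧ ∀ d, 2 * d + 1 ≤ p → (U = ⊥ → p % 4 = 3 → 2 ≤ d) →
    ∃ D : Finset (Fin 2 ⊕ ZMod p), D.card = d ∧ (∀ P ∈ D, X P ∉ D) ∧
      ∀ P ∈ ({Sum.inl 0, Sum.inl 1, Sum.inr 0} : Finset (Fin 2 ⊕ ZMod p)),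
        P ∉ D ∧ (X P = P ∨ X P ∈ D)

theorem good_neg {U : Subgroup ℤˣ} (X : Perm (Fin 2 ⊕ ZMod p))
    (hinl : ∀ i, X (Sum.inl i) = Sum.inl i) (hinr : ∀ i, X (Sum.inr i) = Sum.inr (-i)) :
    GoodInvolution U X := by
  classical
  refine ⟨Equiv.ext fun P => ?_, fun d hd _ => ?_⟩
  · rcases P with i | i <;> simp [hinl, hinr]
  refine ⟨(Finset.range d).image fun i : ℕ => Sum.inr ((i + 1 : ℕ) : ZMod p), ?_, ?_, ?_⟩
  · rw [Finset.card_image_of_injOn, Finset.card_range]
    intro a ha b hb h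
    simp only [Finset.coe_range, Set.mem_Iio] at ha hb
    by_contra hne
    exact cast_ne (p := p) (show a + 1 < p by omega) (show b + 1 < p by omega) (by omega)
      (Sum.inr_injective h)
  · intro P hP
    simp only [Finset.mem_image, Finset.mem_range] at hP ⊢
    obtain ⟨a, ha, rfl⟩ := hP
    rw [hinr]
    rintro ⟨b, hb, e⟩
    exact cast_add_ne (p := p) (a := a + 1) (b := b + 1) (by omega) (by omega)
      (Sum.inr_injective e).symm
  · intro P hP
    simp only [Finset.mem_insert, Finset.mem_singleton] at hP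
    refine ⟨?_, Or.inl ?_⟩
    · simp only [Finset.mem_image, Finset.mem_range]
      rintro ⟨a, ha, e⟩
      rcases hP with rfl | rfl | rfl
      · cases e
      · cases e
      · exact cast_ne (p := p) (show a + 1 < p by omega) (show 0 < p by omega) (by omega)
          (by rw [Nat.cast_zero]; exact Sum.inr_injective e)
    · rcases hP with rfl | rfl | rfl
      · exact hinl 0
      · exact hinl 1
      · rw [hinr, neg_zero]

theorem good_twisted (hp : 5 ≤ p) {U : Subgroup ℤˣ} (hU : U = ⊥) (h4 : p % 4 = 3)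
    (X : Perm (Fin 2 ⊕ ZMod p)) (h0 : X (Sum.inl 0) = Sum.inr (-1))
    (h1 : X (Sum.inl 1) = Sum.inr 1) (ha : X (Sum.inr 1) = Sum.inl 1)
    (hb : X (Sum.inr (-1)) = Sum.inl 0)
    (hrest : ∀ i, i ≠ 1 → i ≠ -1 → X (Sum.inr i) = Sum.inr (-i)) : GoodInvolution U X := by
  classical
  refine ⟨Equiv.ext fun P => ?_, fun d hd h2 => ?_⟩
  · rcases P with i | i
    · fin_cases i
      · simp [h0, hb]
      · simp [h1, ha]
    · by_cases i1 : i = 1
      · subst i1; simp [ha, h1]
      by_cases i2 : i = -1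
      · subst i2; simp [hb, h0]
      rw [Perm.mul_apply, hrest i i1 i2, hrest (-i) (fun h => i2 (by rw [← neg_neg i, h]))
        (fun h => i1 (neg_injective h)), neg_neg, Perm.one_apply]
  have hd2 := h2 hU h4
  let f : ℕ → Fin 2 ⊕ ZMod p := fun i => if i = 0 then Sum.inr (-1) else Sum.inr (i : ZMod p)
  have f0 : f 0 = Sum.inr (-1) := rfl
  have f1 : f 1 = Sum.inr 1 := by simp [f]
  have fs : ∀ i, i ≠ 0 → f i = Sum.inr (i : ZMod p) := fun i hi => by simp [f, hi]
  have hfl : ∀ i, ∀ u, f i ≠ Sum.inl u := fun i u => by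
    simp only [f]; split_ifs <;> simp
  have n1 : ∀ i : ℕ, i < d → (i : ZMod p) ≠ -1 := fun i hi e => by
    refine cast_add_ne (p := p) (a := 1) (b := i) (by omega) (by omega) ?_
    rw [Nat.cast_one]; exact e.symm
  refine ⟨(Finset.range d).image f, ?_, ?_, ?_⟩
  · rw [Finset.card_image_of_injOn, Finset.card_range]
    intro a ha' b hb' h
    simp only [Finset.coe_range, Set.mem_Iio] at ha' hb'
    rcases eq_or_ne a 0 with rfl | a0 <;> rcases eq_or_ne b 0 with rfl | b0
    · rfl
    · rw [f0, fs b b0] at h; exact absurd (Sum.inr_injective h).symm (n1 b hb')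
    · rw [f0, fs a a0] at h; exact absurd (Sum.inr_injective h) (n1 a ha')
    · rw [fs a a0, fs b b0] at h
      by_contra hne
      exact cast_ne (p := p) (by omega : a < p) (by omega : b < p) hne (Sum.inr_injective h)
  · intro P hP
    simp only [Finset.mem_image, Finset.mem_range] at hP ⊢
    obtain ⟨a, ha', rfl⟩ := hP
    rintro ⟨b, hb', e⟩
    rcases eq_or_ne a 0 with rfl | a0
    · rw [f0, hb] at e; exact hfl _ _ e
    rcases eq_or_ne a 1 with rfl | a1
    · rw [f1, ha] at e; exact hfl _ _ e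
    have x1 : (a : ZMod p) ≠ 1 := fun e' => by
      refine cast_ne (p := p) (by omega : a < p) (by omega : 1 < p) a1 ?_
      rw [Nat.cast_one]; exact e'
    rw [fs a a0, hrest _ x1 (n1 a ha')] at e
    rcases eq_or_ne b 0 with rfl | b0
    · rw [f0] at e
      exact x1 (neg_injective (Sum.inr_injective e)).symm
    · rw [fs b b0] at e
      exact cast_add_ne (p := p) (a := a) (b := b) (by omega) (by omega) (Sum.inr_injective e).symm
  · intro P hP
    simp only [Finset.mem_insert, Finset.mem_singleton] at hP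
    simp only [Finset.mem_image, Finset.mem_range]
    rcases hP with rfl | rfl | rfl
    · exact ⟨fun ⟨a, _, e⟩ => hfl _ _ e, Or.inr ⟨0, by omega, by rw [f0, h0]⟩⟩
    · exact ⟨fun ⟨a, _, e⟩ => hfl _ _ e, Or.inr ⟨1, by omega, by rw [f1, h1]⟩⟩
    · refine ⟨?_, Or.inl ?_⟩
      · rintro ⟨a, ha', e⟩
        rcases eq_or_ne a 0 with rfl | a0
        · rw [f0] at e; simpa using Sum.inr_injective e
        · rw [fs a a0] at e
          exact cast_ne (p := p) (by omega : a < p) (by omega : 0 < p) a0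
            (by rw [Nat.cast_zero]; exact Sum.inr_injective e)
      · rw [hrest 0 zero_ne_one (by simp), neg_zero]

/-- A window with its data: words, relations, the gluing involution, and the universal property. -/
theorem exists_window (hp : 5 ≤ p) {U : Subgroup ℤˣ} (hU : U = ⊥ ∨ U = ⊤) :
    ∃ (f : Fin 2 → parGroup U (Fin 2 ⊕ ZMod p)) (wA wW wx : FreeGroup (Fin 2)) (s : ℕ) (ε : ℤˣ),
      ((f 1 : Perm (Fin 2 ⊕ ZMod p)) = zPerm 0) ∧ Subgroup.closure (Set.range f) = ⊤ ∧
      Rels p s ε (FreeGroup.lift f wA) (FreeGroup.lift f wW) (f 1) ∧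
      GoodInvolution U (FreeGroup.lift f wx : Perm (Fin 2 ⊕ ZMod p)) ∧
      ∀ (G : Type) [Group G] (g : Fin 2 → G),
        Rels p s ε (FreeGroup.lift g wA) (FreeGroup.lift g wW) (g 1) →
          FreeGroup.lift g wx * FreeGroup.lift g wx = 1 ∧
          (g 1 ^ 3 = 1 → ∃ φ : parGroup U (Fin 2 ⊕ ZMod p) →* G, ∀ i, φ (f i) = g i) := by
  classical
  have hp2 : p ≠ 2 := by omega
  obtain ⟨r, hr⟩ := IsCyclic.exists_generator (α := (ZMod p)ˣ)
  obtain ⟨hr1, hsgn, hk⟩ := generator_facts hp hr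
  obtain ⟨hBp, hBA⟩ := agl_perm hr1
  set A₀ : alternatingGroup (Fin 2 ⊕ ZMod p) := twist (addP p) with hA₀
  set B₀ : alternatingGroup (Fin 2 ⊕ ZMod p) := twist (mulP r) with hB₀
  set k := (p - 1) / 2 with hkdef
  obtain ⟨i₀, hi₀⟩ := (Fact.out : p.Prime).odd_of_ne_two hp2
  have hsA : Perm.sign (addP p) = 1 := sign_addRight p hp2
  have hAz : ∀ n : ℕ, A₀ ^ n * zA 0 * (A₀ ^ n)⁻¹ = zA (n : ZMod p) := fun n => by
    have := twist_add_z p hp2 n (0 : ZMod p)
    rwa [zero_add] at this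
  have hAgen : Subgroup.closure (Set.range ![A₀, zA 0]) = ⊤ := by
    rw [eq_top_iff, ← zA_gen, Subgroup.closure_le]
    rintro _ ⟨i, rfl⟩
    have := hAz i.val
    rw [ZMod.natCast_zmod_val] at this
    rw [SetLike.mem_coe, ← this]
    have ha : A₀ ∈ Subgroup.closure (Set.range ![A₀, zA 0]) := Subgroup.subset_closure ⟨0, rfl⟩
    exact mul_mem (mul_mem (pow_mem ha _) (Subgroup.subset_closure ⟨1, rfl⟩)) (inv_mem (pow_mem ha _))
  have hAp : A₀ ^ p = 1 := by rw [hA₀, ← map_pow, addP_pow_p, map_one]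
  have hBp' : B₀ ^ (p - 1) = 1 := by rw [hB₀, ← map_pow, hBp, map_one]
  have hBA' : B₀ * A₀ ^ sExp r * B₀⁻¹ = A₀ ^ (sExp r + 1) := by
    rw [hA₀, hB₀, ← map_pow, ← map_pow, ← map_inv, ← map_mul, ← map_mul, hBA]
  have hBz : B₀ * zA 0 * B₀⁻¹ = zA 0 ^ ((-1 : ℤˣ) : ℤ) := by
    rw [hB₀, twist_z, hsgn]
    congr 2
    exact mul_zero _
  have hAq : (zA 0 * (A₀ * zA 0 * A₀⁻¹)) ^ 2 = 1 := by
    have := hAz 1
    rw [pow_one, Nat.cast_one] at this
    rw [this]; exact zA_pair 0 1 zero_ne_one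
  rcases hU with rfl | rfl
  · -- alternating
    have halt : ∀ c : Perm (Fin 2 ⊕ ZMod p), c ∈ parGroup ⊥ (Fin 2 ⊕ ZMod p) ↔
        c ∈ alternatingGroup (Fin 2 ⊕ ZMod p) := fun c => by
      rw [mem_parGroup, Subgroup.mem_bot, mem_alternatingGroup]
    let ι : alternatingGroup (Fin 2 ⊕ ZMod p) ≃* parGroup ⊥ (Fin 2 ⊕ ZMod p) :=
      MulEquiv.subgroupCongr (by ext c; exact (halt c).symm)
    obtain ⟨wb, hwb⟩ := exists_word hAgen B₀
    set f : Fin 2 → parGroup ⊥ (Fin 2 ⊕ ZMod p) := fun i => ι (![A₀, zA 0] i) with hf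
    have hfl : ∀ w, FreeGroup.lift f w = ι (FreeGroup.lift ![A₀, zA 0] w) := fun w => by
      refine DFunLike.congr_fun (f := FreeGroup.lift f)
        (g := ι.toMonoidHom.comp (FreeGroup.lift ![A₀, zA 0])) (FreeGroup.ext_hom _ _ fun i => ?_) w
      simp [hf]
    set a := FreeGroup.of (0 : Fin 2)
    set z := FreeGroup.of (1 : Fin 2)
    let c : FreeGroup (Fin 2) := if p % 4 = 3 then a * z * a⁻¹ else 1
    have la : FreeGroup.lift ![A₀, zA 0] a = A₀ := by simp [a]
    have lz : FreeGroup.lift ![A₀, zA 0] z = zA 0 := by simp [z]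
    refine ⟨f, a, wb, c * wb ^ k * c⁻¹, sExp r, -1, rfl, ?_, ?_, ?_, ?_⟩
    · have h := congrArg (Subgroup.map ι.toMonoidHom) hAgen
      rw [MonoidHom.map_closure, ← Set.range_comp,
        Subgroup.map_top_of_surjective _ ι.surjective] at h
      exact h
    · rw [hfl, hfl, hwb, la, show f 1 = ι (zA 0) from rfl]
      refine ⟨?_, ?_, ?_, ?_⟩
      · rw [← map_pow ι, ← map_pow ι, hAp, hBp']
      · rw [← map_pow ι, ← map_pow ι, ← map_inv ι, ← map_mul ι, ← map_mul ι, hBA']
      · rw [← map_zpow ι, ← map_inv ι, ← map_mul ι, ← map_mul ι, hBz]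
      · rw [← map_inv ι, ← map_mul ι, ← map_mul ι, ← map_mul ι, ← map_pow ι, hAq, map_one]
    · have hw : FreeGroup.lift ![A₀, zA 0] (c * wb ^ k * c⁻¹) = FreeGroup.lift ![A₀, zA 0] c * B₀ ^ k *
          (FreeGroup.lift ![A₀, zA 0] c)⁻¹ := by
        rw [map_mul, map_mul, map_pow, map_inv, hwb]
      rw [hfl, hw]
      have hB : ∀ P, ((B₀ ^ k : alternatingGroup (Fin 2 ⊕ ZMod p)) : Perm _) P =
          Perm.sumCongr (two ((-1 : ℤˣ) ^ k)) (mulP r ^ k) P := fun P => by
        rw [hB₀, ← map_pow]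
        show Perm.sumCongr (two (Perm.sign (mulP r ^ k))) (mulP r ^ k) P = _
        rw [map_pow, hsgn]
      have hneg : ∀ i : ZMod p, (mulP r ^ k) i = -i := fun i => by
        rw [mulP_pow, hk, neg_one_mul]
      by_cases h4 : p % 4 = 3
      · have hko : Odd k := ⟨k / 2, by omega⟩
        have lc : FreeGroup.lift ![A₀, zA 0] c = A₀ * zA 0 * A₀⁻¹ := by
          simp only [c, if_pos h4, map_mul, map_inv, la, lz]
        rw [lc]
        have e1 := hAz 1
        rw [pow_one, Nat.cast_one] at e1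
        rw [e1]
        set X : Perm (Fin 2 ⊕ ZMod p) :=
          ((ι (zA 1 * B₀ ^ k * (zA 1)⁻¹) : parGroup ⊥ (Fin 2 ⊕ ZMod p)) : Perm (Fin 2 ⊕ ZMod p)) with hX
        have hne : (1 : ZMod p) ≠ -1 := by
          have := cast_add_ne (p := p) (a := 1) (b := 1) (by omega) (by omega)
          rw [Nat.cast_one] at this; exact this.symm
        have happ : ∀ P, X (zPerm 1 P) =
            zPerm 1 (Perm.sumCongr (two ((-1 : ℤˣ) ^ k)) (mulP r ^ k) P) := fun P => by
          show ((zPerm (1 : ZMod p)) *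
            ((B₀ ^ k : alternatingGroup (Fin 2 ⊕ ZMod p)) : Perm (Fin 2 ⊕ ZMod p)) *
            (zPerm 1)⁻¹ : Perm (Fin 2 ⊕ ZMod p)) (zPerm 1 P) = _
          rw [Perm.mul_apply, Perm.mul_apply, Perm.inv_def, Equiv.symm_apply_apply, hB]
        simp only [hko.neg_one_pow, two, if_neg (by decide : ¬ (-1 : ℤˣ) = 1),
          Perm.sumCongr_apply] at happ
        have z0 : zPerm (1 : ZMod p) (Sum.inl 0) = Sum.inl 1 := by
          simp [zPerm, Perm.mul_apply, swap_apply_of_ne_of_ne]
        have z1 : zPerm (1 : ZMod p) (Sum.inl 1) = Sum.inr 1 := by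
          simp [zPerm, Perm.mul_apply, swap_apply_of_ne_of_ne]
        have z2 : zPerm (1 : ZMod p) (Sum.inr 1) = Sum.inl 0 := by
          simp [zPerm, Perm.mul_apply]
        have z3 : ∀ i : ZMod p, i ≠ 1 → zPerm (1 : ZMod p) (Sum.inr i) = Sum.inr i := fun i hi => by
          simp [zPerm, Perm.mul_apply, swap_apply_of_ne_of_ne, hi]
        refine good_twisted hp rfl h4 X ?_ ?_ ?_ ?_ ?_
        · have := happ (Sum.inr 1)
          rw [z2] at this
          rw [this]
          simp only [Sum.map_inr, hneg]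
          exact z3 _ hne.symm
        · have := happ (Sum.inl 0)
          rw [z0] at this
          rw [this]
          simp [z1]
        · have := happ (Sum.inl 1)
          rw [z1] at this
          rw [this]
          simp [z0]
        · have := happ (Sum.inr (-1))
          rw [z3 _ hne.symm] at this
          rw [this]
          simp only [Sum.map_inr, hneg, neg_neg]
          exact z2
        · intro i h1 h2
          have := happ (Sum.inr i)
          rw [z3 _ h1] at this
          rw [this]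
          simp only [Sum.map_inr, hneg]
          exact z3 _ fun h => h2 (by rw [← neg_neg i, h])
      · have hke : Even k := ⟨k / 2, by omega⟩
        have lc : FreeGroup.lift ![A₀, zA 0] c = 1 := by
          simp only [c, if_neg h4, map_one]
        rw [lc, one_mul, inv_one, mul_one]
        refine good_neg _ (fun i => ?_) (fun i => ?_) <;>
          show ((B₀ ^ k : alternatingGroup (Fin 2 ⊕ ZMod p)) : Perm (Fin 2 ⊕ ZMod p)) _ = _ <;>
          rw [hB]
        · simp [hke.neg_one_pow, two]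
        · simp [hneg]
    · intro G _ g hg
      obtain ⟨h1, h2, h3, h4⟩ := hg
      refine ⟨?_, fun hz3 => ?_⟩
      · obtain ⟨-, hWp, -⟩ := agl_rels hr1 h1 h2
        simp only [map_mul, map_inv, map_pow]
        rw [show ∀ x y : G, x * y * x⁻¹ * (x * y * x⁻¹) = x * (y * y) * x⁻¹ from
          fun x y => by group, ← pow_add, show k + k = p - 1 by omega, hWp, mul_one, mul_inv_cancel]
      · refine exists_hom_of_bound (T := parGroup ⊥ (Fin 2 ⊕ ZMod p)) (f := f) ?_ ?_
        · have h := congrArg (Subgroup.map ι.toMonoidHom) hAgen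
          rw [MonoidHom.map_closure, ← Set.range_comp,
            Subgroup.map_top_of_surjective _ ι.surjective] at h
          exact h
        · have e : (fun i => (f i, g i)) = ![(f 0, g 0), (f 1, g 1)] := by
            funext i; fin_cases i <;> rfl
          have hl : ∀ w, FreeGroup.lift ![(f 0, g 0), (f 1, g 1)] w =
              (FreeGroup.lift f w, FreeGroup.lift g w) := fun w => by
            refine DFunLike.congr_fun (f := FreeGroup.lift ![(f 0, g 0), (f 1, g 1)])
              (g := (FreeGroup.lift f).prod (FreeGroup.lift g)) (FreeGroup.ext_hom _ _ fun i => ?_) w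
            fin_cases i <;> simp
          have hR : Rels p (sExp r) (-1) (f 0, g 0)
              (FreeGroup.lift ![(f 0, g 0), (f 1, g 1)] wb) (f 1, g 1) := by
            have ha : FreeGroup.lift g a = g 0 := by simp [a]
            rw [ha] at h1 h2 h4
            rw [hl, hfl, hwb, show f 0 = ι A₀ from rfl, show f 1 = ι (zA 0) from rfl]
            refine ⟨Prod.ext ?_ h1, Prod.ext ?_ h2, Prod.ext ?_ h3, Prod.ext ?_ h4⟩
            · show ι A₀ ^ p = ι B₀ ^ (p - 1); rw [← map_pow ι, ← map_pow ι, hAp, hBp']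
            · show ι B₀ * ι A₀ ^ sExp r * (ι B₀)⁻¹ = ι A₀ ^ (sExp r + 1)
              rw [← map_pow ι, ← map_pow ι, ← map_inv ι, ← map_mul ι, ← map_mul ι, hBA']
            · show ι B₀ * ι (zA 0) * (ι B₀)⁻¹ = ι (zA 0) ^ ((-1 : ℤˣ) : ℤ)
              rw [← map_zpow, ← map_inv, ← map_mul, ← map_mul, hBz]
            · show (ι (zA 0) * (ι A₀ * ι (zA 0) * (ι A₀)⁻¹)) ^ 2 = 1
              rw [← map_inv, ← map_mul, ← map_mul, ← map_mul, ← map_pow, hAq, map_one]
          obtain ⟨hfin, hle⟩ := window_alt_bound hr hr1 wb hR (Prod.ext (by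
            show (f 1) ^ 3 = 1
            rw [show f 1 = ι (zA 0) from rfl, ← map_pow, zA_cube, map_one]) hz3)
          rw [e]
          refine ⟨hfin, ?_⟩
          have : Nontrivial (Fin 2 ⊕ ZMod p) := ⟨⟨Sum.inl 0, Sum.inl 1, by simp⟩⟩
          have hb := par_card_bot (α := Fin 2 ⊕ ZMod p)
          rw [Fintype.card_sum, Fintype.card_fin, ZMod.card, add_comm] at hb
          omega
  · -- symmetric
    have hmem : ∀ c : Perm (Fin 2 ⊕ ZMod p), c ∈ parGroup ⊤ (Fin 2 ⊕ ZMod p) := fun c =>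
      Subgroup.mem_top (Perm.sign c)
    set T₀ : Perm (Fin 2 ⊕ ZMod p) := Perm.sumCongr (swap 0 1) 1 with hT₀
    set A₁ : Perm (Fin 2 ⊕ ZMod p) := Perm.sumCongr 1 (addP p) with hA₁
    set B₁ : Perm (Fin 2 ⊕ ZMod p) := Perm.sumCongr 1 (mulP r) with hB₁
    set E₁ : Perm (Fin 2 ⊕ ZMod p) := Perm.sumCongr (swap 0 1) (addP p) with hE₁
    have hA₀' : (A₀ : Perm (Fin 2 ⊕ ZMod p)) = A₁ := by
      show Perm.sumCongr (two (Perm.sign (addP p))) (addP p) = _
      rw [hsA, two, if_pos rfl]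
    have hB₀' : (B₀ : Perm (Fin 2 ⊕ ZMod p)) = T₀ * B₁ := by
      show Perm.sumCongr (two (Perm.sign (mulP r))) (mulP r) = _
      rw [hsgn, two, if_neg (by decide), hT₀, hB₁, Perm.sumCongr_mul, mul_one, one_mul]
    have hTT : T₀ * T₀ = 1 := by
      rw [hT₀, Perm.sumCongr_mul, Equiv.swap_mul_self, one_mul, Perm.sumCongr_one]
    have hEpow : ∀ n : ℕ, E₁ ^ n = Perm.sumCongr (swap (0 : Fin 2) 1 ^ n) (addP p ^ n) := by
      intro n
      induction n with
      | zero => simp
      | succ n ih => rw [pow_succ, ih, hE₁, Perm.sumCongr_mul, ← pow_succ, ← pow_succ]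
    have hE1 : E₁ ^ (p + 1) = A₁ := by
      rw [hEpow, show p + 1 = 2 * (i₀ + 1) by omega, pow_mul, pow_two, Equiv.swap_mul_self, one_pow,
        show 2 * (i₀ + 1) = p + 1 by omega, pow_succ, addP_pow_p, one_mul]
    have hEp : E₁ ^ p = T₀ := by
      have hsw : (swap (0 : Fin 2) 1) ^ p = swap 0 1 := by
        rw [show (swap (0 : Fin 2) 1) ^ p = swap (0 : Fin 2) 1 ^ (2 * i₀ + 1) by rw [← hi₀], pow_succ,
          pow_mul, pow_two, Equiv.swap_mul_self, one_pow, one_mul]
      rw [hEpow, addP_pow_p, hsw]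
    set f : Fin 2 → parGroup ⊤ (Fin 2 ⊕ ZMod p) :=
      ![⟨E₁, hmem _⟩, ⟨zPerm 0, hmem _⟩] with hf
    set κ : alternatingGroup (Fin 2 ⊕ ZMod p) →* parGroup ⊤ (Fin 2 ⊕ ZMod p) :=
      (alternatingGroup (Fin 2 ⊕ ZMod p)).subtype.codRestrict _ (fun c => hmem _) with hκ
    set e := FreeGroup.of (0 : Fin 2)
    set z := FreeGroup.of (1 : Fin 2)
    set sub : FreeGroup (Fin 2) →* FreeGroup (Fin 2) := FreeGroup.lift ![e ^ (p + 1), z] with hsub
    have lsub : ∀ {G : Type} [Group G] (g : Fin 2 → G) (w : FreeGroup (Fin 2)),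
        FreeGroup.lift g (sub w) = FreeGroup.lift ![g 0 ^ (p + 1), g 1] w := fun g w => by
      refine DFunLike.congr_fun (f := (FreeGroup.lift g).comp sub)
        (g := FreeGroup.lift ![g 0 ^ (p + 1), g 1]) (FreeGroup.ext_hom _ _ fun i => ?_) w
      fin_cases i <;> simp [hsub, e, z]
    obtain ⟨wb, hwb⟩ := exists_word hAgen B₀
    have hl0 : ∀ w, (FreeGroup.lift ![f 0 ^ (p + 1), f 1] w : parGroup ⊤ (Fin 2 ⊕ ZMod p)) =
        κ (FreeGroup.lift ![A₀, zA 0] w) := fun w => by
      refine DFunLike.congr_fun (f := FreeGroup.lift ![f 0 ^ (p + 1), f 1])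
        (g := κ.comp (FreeGroup.lift ![A₀, zA 0])) (FreeGroup.ext_hom _ _ fun i => ?_) w
      fin_cases i
      · apply Subtype.ext
        simp only [FreeGroup.lift_apply_of, MonoidHom.comp_apply]
        show E₁ ^ (p + 1) = (A₀ : Perm (Fin 2 ⊕ ZMod p))
        rw [hE1, hA₀']
      · apply Subtype.ext
        simp only [FreeGroup.lift_apply_of, MonoidHom.comp_apply]
        rfl
    have hfW : (FreeGroup.lift f (e ^ p * sub wb) : parGroup ⊤ (Fin 2 ⊕ ZMod p)) =
        ⟨B₁, hmem _⟩ := by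
      apply Subtype.ext
      rw [map_mul, map_pow, lsub, hl0, hwb, Subgroup.coe_mul, SubgroupClass.coe_pow,
        FreeGroup.lift_apply_of]
      show E₁ ^ p * (B₀ : Perm (Fin 2 ⊕ ZMod p)) = B₁
      rw [hEp, hB₀', ← mul_assoc, hTT, one_mul]
    have hgen : Subgroup.closure (Set.range f) = ⊤ := by
      rw [eq_top_iff]
      rintro ⟨c, hc⟩ -
      have heven : ∀ c : Perm (Fin 2 ⊕ ZMod p), Perm.sign c = 1 →
          (⟨c, hmem c⟩ : parGroup ⊤ (Fin 2 ⊕ ZMod p)) ∈ Subgroup.closure (Set.range f) := by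
        intro c hs
        obtain ⟨w, hw⟩ := exists_word hAgen ⟨c, mem_alternatingGroup.2 hs⟩
        have : FreeGroup.lift f (sub w) = ⟨c, hmem c⟩ := by
          rw [lsub, hl0, hw]; rfl
        rw [← this, ← FreeGroup.range_lift_eq_closure]
        exact ⟨_, rfl⟩
      by_cases hs : Perm.sign c = 1
      · exact heven c hs
      · have hs' : Perm.sign (c * E₁) = 1 := by
          rw [map_mul, hE₁, Perm.sign_sumCongr, sign_swap (by decide), hsA,
            (Int.units_eq_one_or _).resolve_left hs]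
          decide
        have := mul_mem (heven _ hs')
          (inv_mem (Subgroup.subset_closure (k := Set.range f) ⟨0, rfl⟩))
        convert this using 1
        apply Subtype.ext
        show c = c * E₁ * E₁⁻¹
        rw [mul_inv_cancel_right]
    have hR₁ : Rels p (sExp r) 1 A₁ B₁ (zPerm 0) := by
      refine ⟨?_, ?_, ?_, ?_⟩
      · rw [← hA₀', ← SubgroupClass.coe_pow, hAp, hB₁,
          show (Perm.sumCongr (1 : Perm (Fin 2)) (mulP r)) = Perm.sumCongrHom _ _ (1, mulP r) from rfl,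
          ← map_pow]
        show (1 : Perm (Fin 2 ⊕ ZMod p)) = Perm.sumCongr (1 ^ (p - 1)) (mulP r ^ (p - 1))
        rw [one_pow, hBp, Perm.sumCongr_one]
      · rw [show A₁ = Perm.sumCongrHom _ _ (1, addP p) from rfl,
          show B₁ = Perm.sumCongrHom _ _ (1, mulP r) from rfl]
        rw [← map_pow, ← map_pow, ← map_inv, ← map_mul, ← map_mul, Prod.pow_mk, Prod.pow_mk,
          one_pow, one_pow, Prod.inv_mk, inv_one, Prod.mk_mul_mk, Prod.mk_mul_mk, one_mul, one_mul,
          hBA]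
      · rw [Units.val_one, zpow_one]
        show B₁ * cyc (Sum.inl 0) (Sum.inl 1) (Sum.inr 0) * B₁⁻¹ = _
        rw [cyc_conj]
        have e0 : mulP r 0 = 0 := mul_zero _
        simp [hB₁, zPerm_eq_cyc, e0]
      · rw [← hA₀']
        have := congrArg Subtype.val hAq
        exact this
    refine ⟨f, e ^ (p + 1), e ^ p * sub wb, (e ^ p * sub wb) ^ k, sExp r, 1, rfl, hgen, ?_, ?_, ?_⟩
    · have hfA : (FreeGroup.lift f (e ^ (p + 1)) : parGroup ⊤ (Fin 2 ⊕ ZMod p)) =
          ⟨A₁, hmem _⟩ := Subtype.ext (by simp [e, hf, hE1])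
      rw [hfA, hfW]
      obtain ⟨a1, a2, a3, a4⟩ := hR₁
      exact ⟨Subtype.ext a1, Subtype.ext a2, Subtype.ext a3, Subtype.ext a4⟩
    · rw [map_pow, hfW]
      refine good_neg _ (fun i => ?_) (fun i => ?_) <;>
        show (B₁ ^ k) _ = _ <;>
        rw [hB₁, show (Perm.sumCongr (1 : Perm (Fin 2)) (mulP r)) =
          Perm.sumCongrHom _ _ (1, mulP r) from rfl, ← map_pow]
      · show (Sum.inl ((1 ^ k : Perm (Fin 2)) i) : Fin 2 ⊕ ZMod p) = _
        rw [one_pow]; rfl
      · show (Sum.inr ((mulP r ^ k) i) : Fin 2 ⊕ ZMod p) = _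
        rw [mulP_pow, hk, neg_one_mul]
    · intro G _ g hg
      refine ⟨?_, fun hz3 => ?_⟩
      · obtain ⟨-, hWp, -⟩ := agl_rels hr1 hg.1 hg.2.1
        simp only [map_pow]
        rw [← pow_add, show k + k = p - 1 by omega, hWp]
      · refine exists_hom_of_bound (f := f) hgen ?_
        have he : (fun i => (f i, g i)) = ![(f 0, g 0), (f 1, g 1)] := by
          funext i; fin_cases i <;> rfl
        set F : Fin 2 → parGroup ⊤ (Fin 2 ⊕ ZMod p) × G := ![(f 0, g 0), (f 1, g 1)] with hF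
        have hl : ∀ w, FreeGroup.lift F w = (FreeGroup.lift f w, FreeGroup.lift g w) := fun w => by
          refine DFunLike.congr_fun (f := FreeGroup.lift F)
            (g := (FreeGroup.lift f).prod (FreeGroup.lift g)) (FreeGroup.ext_hom _ _ fun i => ?_) w
          fin_cases i <;> simp [hF]
        have hR : Rels p (sExp r) 1 (F 0 ^ (p + 1))
            (F 0 ^ p * FreeGroup.lift ![F 0 ^ (p + 1), F 1] wb) (F 1) := by
          have eA : F 0 ^ (p + 1) = FreeGroup.lift F (e ^ (p + 1)) := by simp [e]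
          have eW : F 0 ^ p * FreeGroup.lift ![F 0 ^ (p + 1), F 1] wb =
              FreeGroup.lift F (e ^ p * sub wb) := by
            rw [map_mul, map_pow, lsub]; simp [e]
          have hfA : (FreeGroup.lift f (e ^ (p + 1)) : parGroup ⊤ (Fin 2 ⊕ ZMod p)) =
              ⟨A₁, hmem _⟩ := Subtype.ext (by simp [e, hf, hE1])
          rw [eW, eA, hl, hl, hfA, hfW]
          obtain ⟨a1, a2, a3, a4⟩ := hR₁
          obtain ⟨b1, b2, b3, b4⟩ := hg
          exact ⟨Prod.ext (Subtype.ext a1) b1, Prod.ext (Subtype.ext a2) b2,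
            Prod.ext (Subtype.ext a3) b3, Prod.ext (Subtype.ext a4) b4⟩
        obtain ⟨hfin, hle⟩ := window_perm_bound hp2 hr hr1 wb (e := F 0) (z := F 1) hR (Prod.ext
          (Subtype.ext (by show (zPerm (0 : ZMod p)) ^ 3 = 1; exact zPerm_cube 0)) hz3)
        have hFe : (![F 0, F 1] : Fin 2 → _) = F := by funext i; fin_cases i <;> rfl
        rw [hFe] at hfin hle
        rw [he]
        refine ⟨hfin, ?_⟩
        rw [par_card_top, Fintype.card_sum, Fintype.card_fin, ZMod.card, add_comm]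
        exact hle

end Cfsg.Agent.H68.ShortAlt
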