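import Cfsg.Agent.H68.ShortAlt.Glue
import Cfsg.Agent.H68.ShortAlt.Target
import Cfsg.Agent.H68.ShortAlt.Near
import Cfsg.Agent.H68.ShortAlt.Small
import Cfsg.Agent.H68.ShortAlt.Primes
import Cfsg.Agent.H68.SpPres.Groups

/-!
Presentations of the alternating and symmetric groups with two generators and six relations.
-/

set_option autoImplicit false
set_option linter.unusedSectionVars false

namespace Cfsg.Agent.H68.ShortAlt

open Equiv Equiv.Perm
open Cfsg.Agent.H99.BoundedPres

section Congr

variable {α β : Type} [Fintype α] [DecidableEq α] [Fintype β] [DecidableEq β]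

/-- Transport along a bijection of the points. -/
def parCongr (U : Subgroup ℤˣ) (e : α ≃ β) : parGroup U α ≃* parGroup U β where
  toFun c := ⟨e.permCongr c, by
    show Perm.sign (e.permCongr (c : Perm α)) ∈ U
    rw [Perm.sign_permCongr]; exact c.2⟩
  invFun c := ⟨e.symm.permCongr c, by
    show Perm.sign (e.symm.permCongr (c : Perm β)) ∈ U
    rw [Perm.sign_permCongr]; exact c.2⟩
  left_inv c := Subtype.ext (by ext x; simp [Equiv.permCongr_apply])
  right_inv c := Subtype.ext (by ext x; simp [Equiv.permCongr_apply])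
  map_mul' c d := Subtype.ext (by ext x; simp [Equiv.permCongr_apply])

end Congr

section Gens

variable {α : Type} [Fintype α] [DecidableEq α]

/-- A three-cycle and one more element generate. -/
theorem exists_gam_gens {U : Subgroup ℤˣ} (hU : U = ⊥ ∨ U = ⊤) {K : Finset α} {a b c : α}
    (ha : a ∈ K) (hb : b ∈ K) (hc : c ∈ K) (hab : a ≠ b) (hac : a ≠ c) (hbc : b ≠ c) :
    ∃ w ∈ gam U K, gam U K ≤ Subgroup.closure {cyc a b c, w} := by
  classical
  have hcard : 3 ≤ K.card := by
    rw [← show ({a, b, c} : Finset α).card = 3 by simp [hab, hac, hbc]]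
    refine Finset.card_le_card ?_
    intro x hx
    simp only [Finset.mem_insert, Finset.mem_singleton] at hx
    rcases hx with rfl | rfl | rfl <;> assumption
  obtain ⟨M, hM⟩ : ∃ M, K.card = 2 + (M + 1) := ⟨K.card - 3, by omega⟩
  have hcardeq : Fintype.card (Fin 2 ⊕ Fin (M + 1)) = Fintype.card {P // P ∈ K} := by
    rw [Fintype.card_sum, Fintype.card_fin, Fintype.card_fin, Fintype.card_coe, hM]
  let e₀ := Fintype.equivOfCardEq hcardeq
  obtain ⟨σ, hσ⟩ := SpPres.exists_perm_ext (α := {P // P ∈ K})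
    (SpPres.injective_three (a := e₀ (Sum.inl 0)) (b := e₀ (Sum.inl 1)) (c := e₀ (Sum.inr 0))
      (e₀.injective.ne (by simp)) (e₀.injective.ne (by simp)) (e₀.injective.ne (by simp)))
    (SpPres.injective_three (a := (⟨a, ha⟩ : {P // P ∈ K})) (b := ⟨b, hb⟩) (c := ⟨c, hc⟩)
      (fun h => hab (congrArg Subtype.val h)) (fun h => hac (congrArg Subtype.val h))
      (fun h => hbc (congrArg Subtype.val h)))
  let e := e₀.trans σ
  set rot : Perm (Fin (M + 1)) := finRotate (M + 1)
  obtain ⟨δ, hδU, hδ⟩ : ∃ δ : ℤˣ, δ * Perm.sign rot ∈ U ∧ (U = ⊤ → δ * Perm.sign rot = -1) := by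
    rcases hU with rfl | rfl
    · refine ⟨Perm.sign rot, by rw [Int.units_mul_self]; exact Subgroup.one_mem _, fun h => ?_⟩
      have h' : (-1 : ℤˣ) ∈ (⊥ : Subgroup ℤˣ) := by rw [h]; exact Subgroup.mem_top _
      exact absurd (Subgroup.mem_bot.1 h') (by decide)
    · exact ⟨-Perm.sign rot, Subgroup.mem_top _, fun _ => by rw [neg_mul, Int.units_mul_self]⟩
  set C₀ : Perm (Fin 2 ⊕ Fin (M + 1)) := Perm.sumCongr (two δ) rot with hC₀
  have hsC : Perm.sign C₀ = δ * Perm.sign rot := by rw [hC₀, Perm.sign_sumCongr, sign_two]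
  have hstep : ∀ i : Fin (M + 1), C₀ * zPerm i * C₀⁻¹ = zPerm (rot i) ^ (δ : ℤ) := by
    intro i
    show C₀ * cyc (Sum.inl 0) (Sum.inl 1) (Sum.inr i) * C₀⁻¹ = _
    rw [cyc_conj]
    rcases Int.units_eq_one_or δ with rfl | rfl
    · rw [Units.val_one, zpow_one]
      simp [hC₀, two, zPerm, cyc]
    · have h := sab_zPerm (rot i)
      have hs : (sab : Perm (Fin 2 ⊕ Fin (M + 1)))⁻¹ = sab := inv_eq_of_mul_eq_one_right sab_mul_self
      rw [Units.val_neg, Units.val_one, zpow_neg, zpow_one, ← h,
        show zPerm (rot i) = cyc (Sum.inl 0) (Sum.inl 1) (Sum.inr (rot i)) from rfl]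
      have := cyc_conj (sab : Perm (Fin 2 ⊕ Fin (M + 1))) (Sum.inl 0) (Sum.inl 1) (Sum.inr (rot i))
      rw [hs] at this
      rw [this]
      simp [hC₀, two, sab, swap_apply_of_ne_of_ne]
  set H := Subgroup.closure ({zPerm 0, C₀} : Set (Perm (Fin 2 ⊕ Fin (M + 1))))
  have hC : C₀ ∈ H := Subgroup.subset_closure (by simp)
  have hz : ∀ i : ℕ, ∀ hi : i < M + 1, zPerm (⟨i, hi⟩ : Fin (M + 1)) ∈ H := by
    intro i
    induction i with
    | zero => exact fun _ => Subgroup.subset_closure (by simp)
    | succ i ih =>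
      intro hi
      have h1 := mul_mem (mul_mem hC (ih (by omega))) (inv_mem hC)
      rw [hstep, show rot ⟨i, by omega⟩ = (⟨i + 1, hi⟩ : Fin (M + 1)) from
        finRotate_of_lt (by omega)] at h1
      have := zpow_mem h1 (δ : ℤ)
      rwa [← zpow_mul, ← Units.val_mul, Int.units_mul_self, Units.val_one, zpow_one] at this
  have heven : ∀ x : Perm (Fin 2 ⊕ Fin (M + 1)), Perm.sign x = 1 → x ∈ H := by
    intro x hx
    have hmem : (⟨x, mem_alternatingGroup.2 hx⟩ : alternatingGroup (Fin 2 ⊕ Fin (M + 1))) ∈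
        Subgroup.closure (Set.range (zA (I := Fin (M + 1)))) := by rw [zA_gen]; trivial
    have h := Subgroup.mem_map_of_mem (alternatingGroup (Fin 2 ⊕ Fin (M + 1))).subtype hmem
    rw [MonoidHom.map_closure] at h
    refine (Subgroup.closure_le H).2 ?_ h
    rintro _ ⟨_, ⟨i, rfl⟩, rfl⟩
    exact hz i i.2
  have hall : ∀ x : Perm (Fin 2 ⊕ Fin (M + 1)), Perm.sign x ∈ U → x ∈ H := by
    intro x hx
    by_cases hs : Perm.sign x = 1
    · exact heven x hs
    · have hs' := (Int.units_eq_one_or _).resolve_left hs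
      rcases hU with rfl | rfl
      · exact absurd (Subgroup.mem_bot.1 hx) hs
      · have := mul_mem (heven (x * C₀) (by rw [map_mul, hsC, hδ rfl, hs']; decide)) (inv_mem hC)
        rwa [mul_inv_cancel_right] at this
  have hcyc : embHom e (zPerm 0) = cyc a b c := by
    rw [show zPerm (0 : Fin (M + 1)) = cyc (Sum.inl 0) (Sum.inl 1) (Sum.inr 0) from rfl, embHom_cyc]
    have e0 : σ (e₀ (Sum.inl 0)) = ⟨a, ha⟩ := hσ 0
    have e1 : σ (e₀ (Sum.inl 1)) = ⟨b, hb⟩ := hσ 1
    have e2 : σ (e₀ (Sum.inr 0)) = ⟨c, hc⟩ := hσ 2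
    simp [e, e0, e1, e2]
  refine ⟨embHom e C₀, ⟨show Perm.sign (embHom e C₀) ∈ U by rw [embHom_sign, hsC]; exact hδU,
    fun P hP => embHom_outside e _ hP⟩, ?_⟩
  rw [← embHom_map_par e U, Subgroup.map_le_iff_le_comap]
  intro x hx
  have := Subgroup.mem_map_of_mem (embHom e) (hall x hx)
  rw [MonoidHom.map_closure, Set.image_pair, hcyc] at this
  exact this

end Gens

section Glued

variable {p : ℕ} [Fact p.Prime]

set_option maxHeartbeats 1000000 in
/-- The glued presentation. -/
theorem hasPres_glued (hp : 5 ≤ p) {U : Subgroup ℤˣ} (hU : U = ⊥ ∨ U = ⊤) (d : ℕ)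
    (hd : 2 * d + 1 ≤ p) (hd4 : U = ⊥ → p % 4 = 3 → 2 ≤ d) :
    HasPres (parGroup U ((Fin 2 ⊕ ZMod p) ⊕ Fin d)) 2 6 := by
  classical
  let J := Fin 2 ⊕ ZMod p
  let Ω := J ⊕ Fin d
  obtain ⟨f, wA, wW, wx, s, ε, hfz, hgen, hrel0, ⟨hXX, hgood⟩, huniv⟩ := exists_window hp hU
  set X : Perm J := (FreeGroup.lift f wx : Perm J) with hX
  obtain ⟨D, hDc, hDX, htri⟩ := hgood d hd hd4
  have hXi : ∀ P, X (X P) = P := fun P => by rw [← Perm.mul_apply, hXX, Perm.one_apply]
  let δ : Fin d ≃ {P // P ∈ D} := (Fintype.equivFinOfCardEq (by rw [Fintype.card_coe, hDc])).symm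
  let gf : Ω → Ω := fun P => P.elim
    (fun j => if h : j ∈ D then Sum.inr (δ.symm ⟨j, h⟩) else if X j ∈ D then Sum.inl j
      else Sum.inl (X j))
    (fun i => Sum.inl (δ i : J))
  have gD : ∀ j (h : j ∈ D), gf (Sum.inl j) = Sum.inr (δ.symm ⟨j, h⟩) := fun j h => by simp [gf, h]
  have gK : ∀ j, j ∉ D → X j ∈ D → gf (Sum.inl j) = Sum.inl j := fun j h h' => by simp [gf, h, h']
  have gR : ∀ j, j ∉ D → X j ∉ D → gf (Sum.inl j) = Sum.inl (X j) := fun j h h' => by
    simp [gf, h, h']
  have gI : ∀ i, gf (Sum.inr i) = Sum.inl (δ i : J) := fun i => rfl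
  have ginv : Function.Involutive gf := by
    rintro (j | i)
    · by_cases h : j ∈ D
      · rw [gD j h, gI]; simp
      by_cases h' : X j ∈ D
      · rw [gK j h h', gK j h h']
      · rw [gR j h h', gR (X j) h' (by rw [hXi]; exact h), hXi]
    · rw [gI, gD _ (δ i).2]; simp
  let gh : Perm Ω := ginv.toPerm gf
  have gh_ap : ∀ P, gh P = gf P := fun P => rfl
  let S : Finset Ω := Finset.univ.image Sum.inl
  have hmemS : ∀ j, (Sum.inl j : Ω) ∈ S := fun j => Finset.mem_image_of_mem _ (Finset.mem_univ _)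
  have hnotS : ∀ i, (Sum.inr i : Ω) ∉ S := fun i h => by simp [S] at h
  let e : J ≃ {P // P ∈ S} :=
    Equiv.ofBijective (fun j => ⟨Sum.inl j, hmemS j⟩)
      ⟨fun a b h => Sum.inl_injective (congrArg Subtype.val h), fun P => by
        obtain ⟨j, -, hj⟩ := Finset.mem_image.1 P.2
        exact ⟨j, Subtype.ext hj⟩⟩
  let xh : Perm Ω := embHom e X
  have xl : ∀ j, xh (Sum.inl j) = Sum.inl (X j) := fun j => embHom_apply e X j
  have xr : ∀ i, xh (Sum.inr i) = Sum.inr i := fun i => embHom_outside e X (hnotS i)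
  have hXU : Perm.sign X ∈ U := (FreeGroup.lift f wx).2
  have hxmem : xh ∈ gam U S := ⟨show Perm.sign xh ∈ U by rw [embHom_sign]; exact hXU,
    fun P hP => embHom_outside e X hP⟩
  have hgg : gh * gh = 1 := Equiv.ext fun P => ginv P
  have hxx : xh * xh = 1 := by
    show embHom e X * embHom e X = 1
    rw [← map_mul, hXX, map_one]
  have hbraid : gh * xh * gh = xh * gh * xh := by
    refine Equiv.ext fun P => ?_
    simp only [Perm.mul_apply, gh_ap]
    rcases P with j | i
    · by_cases h : j ∈ D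
      · have hk : X j ∉ D := hDX j h
        rw [gD j h, xr, gI, xl, gK (X j) hk (by rw [hXi]; exact h), xl, hXi]
        simp
      by_cases h' : X j ∈ D
      · rw [gK j h h', xl, gD _ h', xr]
      · rw [gR j h h', xl, hXi, gR j h h', xl, gR (X j) h' (by rw [hXi]; exact h), hXi, xl]
    · rw [gI, xl, gK _ (hDX _ (δ i).2) (by rw [hXi]; exact (δ i).2), xr, gI, xl]
  have hgsign : Perm.sign gh = Perm.sign xh := by
    have := congrArg Perm.sign hbraid
    simp only [map_mul] at this
    rw [mul_right_comm, Int.units_mul_self, one_mul, mul_right_comm, Int.units_mul_self,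
      one_mul] at this
    exact this.symm
  -- the base pair
  obtain ⟨b₀, hb₀, b₁, hb₁, hb01⟩ := Finset.one_lt_card.1
    (show 1 < (Finset.univ \ (D ∪ D.image X)).card by
      have h1 := Finset.le_card_sdiff (D ∪ D.image X) (Finset.univ : Finset J)
      have h2 := Finset.card_union_le D (D.image X)
      have h3 : (D.image X).card ≤ D.card := Finset.card_image_le
      have h4 : (Finset.univ : Finset J).card = 2 + p := by
        rw [Finset.card_univ, Fintype.card_sum, Fintype.card_fin, ZMod.card]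
      omega)
  have hbase : ∀ b, b ∈ Finset.univ \ (D ∪ D.image X) → (Sum.inl b : Ω) ∈ S ∧
      gh (Sum.inl b) ∈ S ∧ gh (xh (Sum.inl b)) ∈ S ∧ gh (xh (gh (xh (Sum.inl b)))) ∈ S := by
    intro b hb
    simp only [Finset.mem_sdiff, Finset.mem_univ, true_and, Finset.mem_union, Finset.mem_image,
      not_or, not_exists, not_and] at hb
    have h' : X b ∉ D := fun h => hb.2 _ h (hXi b)
    have h'' : X (X b) ∉ D := by rw [hXi]; exact hb.1
    refine ⟨hmemS _, ?_, ?_, ?_⟩
    · rw [gh_ap, gR b hb.1 h']; exact hmemS _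
    · rw [gh_ap, xl, gR _ h' h'']; exact hmemS _
    · rw [gh_ap, gh_ap, xl, gR _ h' h'', xl, hXi, gR _ h' h'', ]
      exact hmemS _
  have L : Layout U S gh xh (Sum.inl b₀) (Sum.inl b₁) :=
    { par := hU
      gg := hgg
      xx := hxx
      xmem := hxmem
      gpar := by rw [hgsign]; exact hxmem.1
      cover := by
        rintro (j | i)
        · exact Or.inl (hmemS j)
        · exact Or.inr (by rw [gh_ap, gI]; exact hmemS _)
      braid := hbraid
      ends := by
        rintro (j | i) hP hg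
        · by_cases h : j ∈ D
          · refine ⟨by rw [xl]; exact hmemS _, ?_⟩
            rw [xl, gh_ap, gK _ (hDX j h) (by rw [hXi]; exact h)]
            exact hmemS _
          · exfalso
            by_cases h' : X j ∈ D
            · rw [gh_ap, gK j h h'] at hg; exact hg (hmemS _)
            · rw [gh_ap, gR j h h'] at hg; exact hg (hmemS _)
        · exact absurd hP (hnotS i)
      ne := fun h => hb01 (Sum.inl_injective h)
      base₀ := hbase b₀ hb₀
      base₁ := hbase b₁ hb₁ }
  -- the fixed triple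
  have hfix : ∀ P ∈ ({Sum.inl 0, Sum.inl 1, Sum.inr 0} : Finset J),
      gh (Sum.inl P) = Sum.inl P := by
    intro P hP
    obtain ⟨h1, h2⟩ := htri P hP
    rw [gh_ap]
    by_cases h : X P ∈ D
    · rw [gK P h1 h]
    · rw [gR P h1 h, h2.resolve_right h]
  set K := S.filter fun P => gh P ∈ S with hK
  have hKm : ∀ P ∈ ({Sum.inl 0, Sum.inl 1, Sum.inr 0} : Finset J), (Sum.inl P : Ω) ∈ K := fun P hP =>
    Finset.mem_filter.2 ⟨hmemS _, by rw [hfix P hP]; exact hmemS _⟩
  set Zh : Perm Ω := cyc (Sum.inl (Sum.inl 0)) (Sum.inl (Sum.inl 1)) (Sum.inl (Sum.inr 0)) with hZh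
  have hZe : embHom e (f 1 : Perm J) = Zh := by
    rw [hfz, zPerm_eq_cyc, embHom_cyc]; rfl
  obtain ⟨wh, hwh, hwgen⟩ := exists_gam_gens hU (hKm (Sum.inl 0) (by simp))
    (hKm (Sum.inl 1) (by simp)) (hKm (Sum.inr 0) (by simp)) (Sum.inl_injective.ne (by simp [J]))
    (Sum.inl_injective.ne (by simp [J])) (Sum.inl_injective.ne (by simp [J]))
  rw [← hZh] at hwgen
  have hginv : gh⁻¹ = gh := inv_eq_of_mul_eq_one_right hgg
  have hZg : gh * Zh * gh = Zh := by
    rw [hZh, L.cyc_conj_g, hfix _ (by simp), hfix _ (by simp), hfix _ (by simp)]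
  have hKS : gam U K ≤ gam U S := gam_mono (Finset.filter_subset _ _)
  have hwg : gh * wh * gh ∈ gam U S := by
    refine ⟨show Perm.sign (gh * wh * gh) ∈ U by rw [L.conj_par]; exact hwh.1, fun P hP => ?_⟩
    have : gh P ∉ K := fun h => hP (by
      have := (Finset.mem_filter.1 h).2
      rwa [gh_ap, gh_ap, ginv P] at this)
    rw [Perm.mul_apply, Perm.mul_apply, hwh.2 _ this, gh_ap, gh_ap, ginv P]
  set eq := embEquiv e U with heq
  obtain ⟨ww, hww⟩ := exists_word hgen (eq.symm ⟨wh, hKS hwh⟩)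
  obtain ⟨ww', hww'⟩ := exists_word hgen (eq.symm ⟨gh * wh * gh, hwg⟩)
  -- generators
  let T := parGroup U Ω
  have hgU : Perm.sign gh ∈ U := L.gpar
  let inc : gam U S →* T := Subgroup.inclusion inf_le_left
  let emb : parGroup U J →* T := inc.comp eq.toMonoidHom
  have hemb : ∀ c, (emb c : Perm Ω) = embHom e (c : Perm J) := fun c => rfl
  set F : Fin 2 → T := ![emb (f 0), (⟨gh, hgU⟩ : T) * emb (f 1)] with hF
  set oE := FreeGroup.of (0 : Fin 2)
  set oH := FreeGroup.of (1 : Fin 2)
  set zc := oH ^ 4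
  set gc := oH ^ 3
  set v : Fin 2 → FreeGroup (Fin 2) := ![oE, zc] with hv
  let sub := FreeGroup.lift v
  have hcm : Commute (⟨gh, hgU⟩ : T) (emb (f 1)) := by
    apply Subtype.ext
    show gh * embHom e (f 1 : Perm J) = embHom e (f 1 : Perm J) * gh
    rw [hZe]
    calc gh * Zh = gh * Zh * (gh * gh) := by rw [hgg, mul_one]
      _ = (gh * Zh * gh) * gh := by group
      _ = _ := by rw [hZg]
  have hZ3 : (emb (f 1)) ^ 3 = 1 := by
    rw [← map_pow]
    have : f 1 ^ 3 = 1 := Subtype.ext (by rw [SubgroupClass.coe_pow, hfz]; exact zPerm_cube 0)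
    rw [this, map_one]
  have hg2 : (⟨gh, hgU⟩ : T) ^ 2 = 1 := Subtype.ext (by rw [pow_two]; exact hgg)
  have hFz : FreeGroup.lift F zc = emb (f 1) := by
    simp only [zc, oH, map_pow, FreeGroup.lift_apply_of]
    show ((⟨gh, hgU⟩ : T) * emb (f 1)) ^ 4 = _
    rw [hcm.mul_pow, show (4 : ℕ) = 2 * 2 from rfl, pow_mul, hg2, one_pow, one_mul,
      show (2 * 2 : ℕ) = 3 + 1 from rfl, pow_succ, hZ3, one_mul]
  have hFg : FreeGroup.lift F gc = ⟨gh, hgU⟩ := by
    simp only [gc, oH, map_pow, FreeGroup.lift_apply_of]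
    show ((⟨gh, hgU⟩ : T) * emb (f 1)) ^ 3 = _
    rw [hcm.mul_pow, hZ3, mul_one, pow_succ, hg2, one_mul]
  have hFsub : ∀ w, FreeGroup.lift F (sub w) = emb (FreeGroup.lift f w) := fun w => by
    refine DFunLike.congr_fun (f := (FreeGroup.lift F).comp sub)
      (g := emb.comp (FreeGroup.lift f)) (FreeGroup.ext_hom _ _ fun i => ?_) w
    fin_cases i
    · simp [sub, hv, hF, oE]
    · simp only [sub, MonoidHom.comp_apply, FreeGroup.lift_apply_of]
      exact hFz
  have hgenF : Subgroup.closure (Set.range F) = ⊤ := by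
    rw [eq_top_iff]
    intro t _
    set H := (Subgroup.closure (Set.range F)).map (parGroup U Ω).subtype with hH
    have hwords : ∀ w, (FreeGroup.lift F w : Perm Ω) ∈ H := fun w =>
      Subgroup.mem_map_of_mem _ (by rw [← FreeGroup.range_lift_eq_closure]; exact ⟨w, rfl⟩)
    have hg1 : gh ∈ H := by
      have := hwords gc
      rwa [hFg] at this
    have hS1 : ∀ c ∈ gam U S, c ∈ H := by
      intro c hc
      obtain ⟨w, hw⟩ := exists_word hgen (eq.symm ⟨c, hc⟩)
      have := hwords (sub w)
      rwa [hFsub, hw, hemb, ← embEquiv_coe, MulEquiv.apply_symm_apply] at this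
    have heven : ∀ c : Perm Ω, Perm.sign c = 1 → c ∈ H := by
      intro c hs
      have h := mem_closure_cyc (S := Finset.univ) (a := (Sum.inl b₀ : Ω)) (b := Sum.inl b₁)
        (Finset.mem_univ _) (Finset.mem_univ _) L.ne hs (fun P hP => absurd (Finset.mem_univ P) hP)
      refine (Subgroup.closure_le H).2 ?_ h
      rintro _ ⟨P, -, h0, h1, rfl⟩
      by_cases hP : P ∈ S
      · exact hS1 _ (cyc_mem_gam L.ne h1.symm L.base₀.1 L.base₁.1 hP)
      · have hm : gh * cyc (Sum.inl b₀) (Sum.inl b₁) P * gh ∈ gam U S := by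
          rw [L.cyc_conj_g]
          exact cyc_mem_gam (gh.injective.ne L.ne) (gh.injective.ne h1.symm) L.base₀.2.1 L.base₁.2.1
            ((L.cover P).resolve_left hP)
        have := mul_mem (mul_mem hg1 (hS1 _ hm)) hg1
        rwa [show gh * (gh * cyc (Sum.inl b₀) (Sum.inl b₁) P * gh) * gh =
          (gh * gh) * cyc (Sum.inl b₀) (Sum.inl b₁) P * (gh * gh) by group, hgg, one_mul,
          mul_one] at this
    have htH : (t : Perm Ω) ∈ H := by
      by_cases hs : Perm.sign (t : Perm Ω) = 1
      · exact heven _ hs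
      · set τ := swap (Sum.inl b₀ : Ω) (Sum.inl b₁) with hτ
        have hsτ : Perm.sign τ = Perm.sign (t : Perm Ω) := by
          rw [hτ, sign_swap L.ne, (Int.units_eq_one_or _).resolve_left hs]
        have hτm : τ ∈ gam U S := ⟨show Perm.sign τ ∈ U by rw [hsτ]; exact t.2, fun P hP =>
          swap_apply_of_ne_of_ne (fun h => hP (h ▸ hmemS _)) (fun h => hP (h ▸ hmemS _))⟩
        have := mul_mem (heven ((t : Perm Ω) * τ) (by rw [map_mul, hsτ, Int.units_mul_self]))
          (hS1 τ hτm)
        rwa [mul_assoc, hτ, Equiv.swap_mul_self, mul_one] at this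
    obtain ⟨t', ht', e'⟩ := htH
    rwa [← Subtype.ext e']
  let rels : List (FreeGroup (Fin 2) × FreeGroup (Fin 2)) :=
    relList p s ε (sub wA) (sub wW) zc ++
      [(gc * sub wx * gc, sub wx * gc * sub wx), (gc * sub ww * gc, sub ww')]
  refine HasPres.of_list rels le_rfl F hgenF ?_ ?_
  · intro r hr
    rcases List.mem_append.1 hr with h | h
    · refine (relList_iff (FreeGroup.lift F) s ε _ _ _).2 ?_ r h
      rw [hFsub, hFsub, hFz]
      obtain ⟨a1, a2, a3, a4⟩ := hrel0
      refine ⟨?_, ?_, ?_, ?_⟩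
      · rw [← map_pow emb, ← map_pow emb, a1]
      · rw [← map_pow emb, ← map_pow emb, ← map_inv emb, ← map_mul emb, ← map_mul emb, a2]
      · rw [← map_zpow emb, ← map_inv emb, ← map_mul emb, ← map_mul emb, a3]
      · rw [← map_inv emb, ← map_mul emb, ← map_mul emb, ← map_mul emb, ← map_pow emb, a4, map_one]
    · simp only [List.mem_cons, List.not_mem_nil, or_false] at h
      rcases h with rfl | rfl <;> apply Subtype.ext
      · simp only [map_mul, hFg, hFsub, Subgroup.coe_mul, hemb]
        exact hbraid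
      · simp only [map_mul, hFg, hFsub, Subgroup.coe_mul, hemb, hww, hww']
        rw [← embEquiv_coe, ← embEquiv_coe, ← heq, MulEquiv.apply_symm_apply,
          MulEquiv.apply_symm_apply]
  · intro G _ π hπ hrel θ hθ
    have h4 := (relList_iff π s ε (sub wA) (sub wW) zc).1 fun r hr =>
      hrel r (List.mem_append_left _ hr)
    have h5 := hrel (gc * sub wx * gc, sub wx * gc * sub wx) (List.mem_append_right _ (by simp))
    have h6 := hrel (gc * sub ww * gc, sub ww') (List.mem_append_right _ (by simp))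
    simp only [map_mul] at h5 h6
    set gg : Fin 2 → G := fun i => π (v i) with hgg'
    have hsubG : ∀ w, π (sub w) = FreeGroup.lift gg w := fun w => map_sub π v w
    rw [hsubG, hsubG] at h4
    rw [hsubG] at h5
    rw [hsubG, hsubG] at h6
    obtain ⟨hxsq, hφ⟩ := huniv G gg h4
    set x := FreeGroup.lift gg wx
    set g := π gc with hgdef
    -- the conjugation makes `g` an involution
    have hg : g * g = 1 := by
      have e1 : (g * x) * g * (g * x)⁻¹ = x := by
        calc (g * x) * g * (g * x)⁻¹ = (g * x * g) * x⁻¹ * g⁻¹ := by group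
          _ = (x * g * x) * x⁻¹ * g⁻¹ := by rw [h5]
          _ = x := by group
      have e2 : (g * x) * (g * g) * (g * x)⁻¹ = 1 := by
        rw [show (g * x) * (g * g) * (g * x)⁻¹ = ((g * x) * g * (g * x)⁻¹) * ((g * x) * g * (g * x)⁻¹)
          by group, e1, hxsq]
      exact conj_eq_one_iff.1 e2
    have hz3 : gg 1 ^ 3 = 1 := by
      show π zc ^ 3 = 1
      rw [show π zc = π oH ^ 4 from map_pow π oH 4, ← pow_mul, show 4 * 3 = 3 * 2 * 2 from rfl,
        pow_mul, pow_mul, ← map_pow π oH 3, pow_two (π gc), hg, one_pow]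
    obtain ⟨φ, hφ⟩ := hφ hz3
    set ψ : gam U S →* G := φ.comp eq.symm.toMonoidHom with hψ
    have hφl : ∀ w, φ (FreeGroup.lift f w) = FreeGroup.lift gg w := fun w => by
      refine DFunLike.congr_fun (f := φ.comp (FreeGroup.lift f)) (g := FreeGroup.lift gg)
        (FreeGroup.ext_hom _ _ fun i => ?_) w
      simp [hφ]
    have hext : ∀ c (hc : c ∈ gam U S) w, FreeGroup.lift f w = eq.symm ⟨c, hc⟩ →
        ext1 ψ c = FreeGroup.lift gg w := fun c hc w hw => by
      rw [ext1, dif_pos hc, ← hφl, hw]; rfl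
    have hxψ : ext1 ψ xh = x := hext xh hxmem wx (by
      apply eq.injective
      rw [MulEquiv.apply_symm_apply]
      exact Subtype.ext rfl)
    have hgcomm : g * π zc * g = π zc := by
      have hc : Commute g (π zc) := by
        rw [hgdef, show π gc = π oH ^ 3 from map_pow π oH 3, show π zc = π oH ^ 4 from map_pow π oH 4]
        exact Commute.pow_pow_self _ 3 4
      rw [hc.eq, mul_assoc, hg, mul_one]
    have hKG : ∀ c ∈ gam U K, g * ext1 ψ c * g = ext1 ψ (gh * c * gh) := by
      intro c hc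
      have h := hwgen hc
      have key : c ∈ gam U S ∧ gh * c * gh ∈ gam U S ∧ g * ext1 ψ c * g = ext1 ψ (gh * c * gh) := by
        clear hc
        induction h using Subgroup.closure_induction with
        | mem y hy =>
          simp only [Set.mem_insert_iff, Set.mem_singleton_iff] at hy
          rcases hy with rfl | rfl
          · have hm : Zh ∈ gam U S := by
              rw [← hZe]
              exact ⟨show Perm.sign (embHom e (f 1 : Perm J)) ∈ U by rw [embHom_sign]; exact (f 1).2,
                fun P hP => embHom_outside e _ hP⟩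
            refine ⟨hm, by rw [hZg]; exact hm, ?_⟩
            rw [hZg, hext Zh hm (FreeGroup.of 1) (by
              apply eq.injective
              rw [MulEquiv.apply_symm_apply, FreeGroup.lift_apply_of]
              exact Subtype.ext hZe), FreeGroup.lift_apply_of]
            exact hgcomm
          · refine ⟨hKS hwh, hwg, ?_⟩
            rw [hext y (hKS hwh) ww hww, hext _ hwg ww' hww']
            exact h6
        | one =>
          refine ⟨one_mem _, by rw [mul_one, hgg]; exact one_mem _, ?_⟩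
          rw [mul_one, hgg, ext1_one, mul_one, hg]
        | mul a b _ _ ha hb =>
          have e0 : gh * (a * b) * gh = (gh * a * gh) * (gh * b * gh) := by
            rw [show gh * a * gh * (gh * b * gh) = gh * a * (gh * gh) * b * gh by group, hgg]; group
          refine ⟨mul_mem ha.1 hb.1, by rw [e0]; exact mul_mem ha.2.1 hb.2.1, ?_⟩
          rw [e0, ext1_mul ψ ha.1 hb.1, ext1_mul ψ ha.2.1 hb.2.1, ← ha.2.2, ← hb.2.2,
            show g * ext1 ψ a * g * (g * ext1 ψ b * g) = g * ext1 ψ a * (g * g) * ext1 ψ b * g by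
              group, hg]
          group
        | inv a _ ha =>
          have e0 : gh * a⁻¹ * gh = (gh * a * gh)⁻¹ := by
            rw [mul_inv_rev, mul_inv_rev, hginv, mul_assoc]
          refine ⟨inv_mem ha.1, by rw [e0]; exact inv_mem ha.2.1, ?_⟩
          rw [e0, ext1_inv ψ ha.1, ext1_inv ψ ha.2.1, ← ha.2.2, mul_inv_rev, mul_inv_rev,
            inv_eq_of_mul_eq_one_right hg, mul_assoc]
      exact key.2.2
    have hrange : Subgroup.closure (Set.range ψ ∪ {g}) = ⊤ := by
      rw [eq_top_iff]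
      intro y hy
      clear hy
      obtain ⟨w, rfl⟩ := hπ y
      have hψm : ∀ i, φ (f i) ∈ Subgroup.closure (Set.range ψ ∪ {g}) := fun i =>
        Subgroup.subset_closure (Or.inl ⟨eq (f i), by simp [hψ]⟩)
      induction w using FreeGroup.induction_on with
      | C1 => rw [map_one]; exact one_mem _
      | of i =>
        fin_cases i
        · have := hψm 0
          rw [hφ] at this
          exact this
        · have h1 := hψm 1
          rw [hφ] at h1
          show π oH ∈ _
          have e1 : π oH = π zc * g⁻¹ := by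
            rw [hgdef, show π zc = π oH ^ 4 from map_pow π oH 4,
              show π gc = π oH ^ 3 from map_pow π oH 3, pow_succ' (π oH) 3, mul_inv_cancel_right]
          rw [e1]
          exact mul_mem h1 (inv_mem (Subgroup.subset_closure (Or.inr rfl)))
      | inv_of i hi => rw [map_inv]; exact inv_mem hi
      | mul x y hx hy => rw [map_mul]; exact mul_mem hx hy
    obtain ⟨hfin, hcard⟩ := glue_card L ψ g hg (by rw [hxψ]; exact h5) hKG hrange
    exact injective_of_card_le hgenF hθ hcard

end Glued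

theorem hasPres_tiny {U : Subgroup ℤˣ} (n : ℕ) (hn : n ≤ 2) : HasPres (parGroup U (Fin n)) 2 2 := by
  have hc : Nat.card (parGroup U (Fin n)) ≤ 2 := by
    refine le_trans (Nat.card_le_card_of_injective _ Subtype.val_injective) ?_
    rw [Nat.card_perm, Nat.card_eq_fintype_card, Fintype.card_fin]
    interval_cases n <;> decide
  rcases subsingleton_or_nontrivial (parGroup U (Fin n)) with h | h
  · exact hasPres_cyclic 1 fun x => by rw [Subsingleton.elim x 1]; exact one_mem _
  · obtain ⟨t, ht⟩ := exists_ne (1 : parGroup U (Fin n))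
    refine hasPres_cyclic t fun x => ?_
    have h1 : 2 ≤ Nat.card (Subgroup.zpowers t) := by
      rw [Nat.card_zpowers]
      have := orderOf_pos t
      have : orderOf t ≠ 1 := fun h => ht (orderOf_eq_one_iff.1 h)
      omega
    rw [Subgroup.eq_top_of_le_card (Subgroup.zpowers t) (by omega)]
    trivial

/-- Two generators and at most six relations, for the alternating and the symmetric groups. -/
theorem hasPres_par {U : Subgroup ℤˣ} (hU : U = ⊥ ∨ U = ⊤) (n : ℕ) :
    HasPres (parGroup U (Fin n)) 2 6 := by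
  rcases lt_or_ge n 3 with h3 | h3
  · exact (hasPres_tiny n (by omega)).mono (by omega)
  rcases lt_or_ge n 10 with h10 | h10
  · obtain ⟨m, rfl⟩ : ∃ m, n = 2 + (m + 1) := ⟨n - 3, by omega⟩
    exact ((hasPres_small_par hU m).mono (by omega)).of_mulEquiv (parCongr U finSumFinEquiv)
  obtain ⟨p, hp, hp5, hcase⟩ := exists_window_prime n h10
  haveI : Fact p.Prime := ⟨hp⟩
  rcases hcase with h | h | ⟨h1, h2⟩
  · exact ((hasPres_window_par hp5 hU).mono (by omega)).of_mulEquiv (parCongr U
      (Fintype.equivFinOfCardEq (by rw [Fintype.card_sum, Fintype.card_fin, ZMod.card]; omega)))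
  · by_cases hy : U = ⊥ ∧ p % 4 = 3
    · rw [hy.1]
      exact (hasPres_window_succ hp5).of_mulEquiv (parCongr ⊥ (Fintype.equivFinOfCardEq (by
        rw [Fintype.card_sum, Fintype.card_fin, Fintype.card_option, ZMod.card]; omega)))
    · exact (hasPres_glued hp5 hU 1 (by omega) (fun a b => absurd ⟨a, b⟩ hy)).of_mulEquiv
        (parCongr U (Fintype.equivFinOfCardEq (by
          simp only [Fintype.card_sum, Fintype.card_fin, ZMod.card]; omega)))
  · obtain ⟨i, hi⟩ := hp.odd_of_ne_two (by omega)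
    exact (hasPres_glued hp5 hU (n - (p + 2)) (by omega) (fun _ _ => by omega)).of_mulEquiv
        (parCongr U (Fintype.equivFinOfCardEq (by
          simp only [Fintype.card_sum, Fintype.card_fin, ZMod.card]; omega)))

theorem hasPres_alt (n : ℕ) : HasPres (alternatingGroup (Fin n)) 2 6 :=
  (hasPres_par (Or.inl rfl) n).of_mulEquiv (MulEquiv.subgroupCongr (by
    ext c; rw [mem_parGroup, Subgroup.mem_bot, mem_alternatingGroup]))

theorem hasPres_perm (n : ℕ) : HasPres (Perm (Fin n)) 2 6 :=
  (hasPres_par (Or.inr rfl) n).of_mulEquiv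
    ((MulEquiv.subgroupCongr (Subgroup.comap_top _)).trans Subgroup.topEquiv)

end Cfsg.Agent.H68.ShortAlt
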