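import Cfsg.Agent.H99.HasPres

/-!
A bounded presentation on any given generating pair.
-/

set_option autoImplicit false

namespace Cfsg.Agent.H68.ShortAlt

open Cfsg.Agent.H99.BoundedPres

theorem exists_iso_pair {T : Type} [Group T] {k l : ℕ} (h : HasPres T k l) {a b : T}
    (hab : Subgroup.closure ({a, b} : Set T) = ⊤) :
    ∃ rels : Finset (FreeGroup (Fin 2)), rels.card ≤ l + 2 ∧
      ∃ e : PresentedGroup (↑rels : Set (FreeGroup (Fin 2))) ≃* T,
        e (PresentedGroup.of 0) = a ∧ e (PresentedGroup.of 1) = b := by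
  classical
  obtain ⟨f, rels, hc, hgen, hsat, huniv⟩ := h
  have hab' : Subgroup.closure (Set.range ![a, b]) = ⊤ := by
    rw [← hab]
    congr 1
    ext y
    simp only [Set.mem_range, Fin.exists_fin_two, Set.mem_insert_iff, Set.mem_singleton_iff]
    simp [eq_comm]
  choose w hw using fun i => exists_word hab' (f i)
  choose v hv using fun i => exists_word hgen (![a, b] i)
  have hsub : (FreeGroup.lift ![a, b]).comp (FreeGroup.lift w) = FreeGroup.lift f := by
    ext i
    simp [hw]
  set R := rels.image (FreeGroup.lift w) ∪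
    Finset.univ.image (fun i => (FreeGroup.of i)⁻¹ * FreeGroup.lift w (v i)) with hR
  refine ⟨R, (Finset.card_union_le _ _).trans (add_le_add (Finset.card_image_le.trans hc)
    (Finset.card_image_le.trans (by simp))), ?_⟩
  have hsatR : ∀ r ∈ (↑R : Set (FreeGroup (Fin 2))), FreeGroup.lift ![a, b] r = 1 := by
    intro r hr
    rcases Finset.mem_union.mp (Finset.mem_coe.mp hr) with hr | hr
    · obtain ⟨s, hs, rfl⟩ := Finset.mem_image.mp hr
      rw [← MonoidHom.comp_apply, hsub, hsat s hs]
    · obtain ⟨i, -, rfl⟩ := Finset.mem_image.mp hr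
      rw [map_mul, map_inv, FreeGroup.lift_apply_of, ← MonoidHom.comp_apply, hsub, hv,
        inv_mul_cancel]
  let θ : PresentedGroup (↑R : Set (FreeGroup (Fin 2))) →* T := PresentedGroup.toGroup hsatR
  let mk := PresentedGroup.mk (↑R : Set (FreeGroup (Fin 2)))
  have hgw : FreeGroup.lift (fun i => mk (w i)) = mk.comp (FreeGroup.lift w) := by
    ext i
    simp
  obtain ⟨φ, hφ⟩ := huniv _ (fun i => mk (w i)) fun r hr => by
    rw [hgw]
    exact PresentedGroup.one_of_mem (Finset.mem_coe.mpr
      (Finset.mem_union_left _ (Finset.mem_image_of_mem _ hr)))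
  have hφl : φ.comp (FreeGroup.lift f) = mk.comp (FreeGroup.lift w) := by
    rw [← hgw]
    ext i
    simp [hφ]
  have hθ : ∀ i, θ (PresentedGroup.of i) = ![a, b] i := fun i => PresentedGroup.toGroup.of hsatR
  have hφi : ∀ i, φ (![a, b] i) = PresentedGroup.of i := by
    intro i
    have h1 : mk ((FreeGroup.of i)⁻¹ * FreeGroup.lift w (v i)) = 1 :=
      PresentedGroup.one_of_mem (Finset.mem_coe.mpr (Finset.mem_union_right _
        (Finset.mem_image_of_mem _ (Finset.mem_univ i))))
    rw [map_mul, map_inv, inv_mul_eq_one] at h1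
    calc φ (![a, b] i) = φ.comp (FreeGroup.lift f) (v i) := by rw [MonoidHom.comp_apply, hv]
      _ = mk (FreeGroup.of i) := by rw [hφl, MonoidHom.comp_apply, h1]
      _ = _ := rfl
  refine ⟨MonoidHom.toMulEquiv θ φ ?_ (hom_ext_closure hab' fun i => ?_), hθ 0, hθ 1⟩
  · exact PresentedGroup.ext fun i => by rw [MonoidHom.comp_apply, hθ, hφi, MonoidHom.id_apply]
  · rw [MonoidHom.comp_apply, hφi, hθ, MonoidHom.id_apply]

end Cfsg.Agent.H68.ShortAlt
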